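import Cfsg.Agent.H17.AL2

/-! Involution centraliser `2^{1+4}_-.S₄`: the dichotomy (part D for `H17.AL`). -/

set_option autoImplicit false
set_option maxRecDepth 100000
set_option synthInstance.maxSize 4096

namespace H04.ALD
open Subgroup H17.AL

universe u v

def pz : List ℕ := [83, 371, 538, 798, 1217, 1253, 1708, 1932, 1960, 2135, 2423, 2618, 2878, 3521, 3557, 3724, 3752, 3976]
def pt : List ℕ := [119, 343, 574, 826, 1477, 1505, 2163, 2387, 2590, 2842, 3269, 3297]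
def Vc (k : ℕ) : ℕ := [1672, 83, 538, 1217].getD k 0
def mc (x y : ℕ × ℕ) : ℕ × ℕ := (cm x.1 (am (Vc x.2) y.1), x.2 ^^^ y.2)
def fm (a b : ℕ) : ℕ := [[0, 0, 0, 0], [0, 1, 2, 3], [0, 2, 3, 1], [0, 3, 1, 2]].getD a [] |>.getD b 0
def uc (a b c : ℕ) : ℕ × ℕ :=
  mc (mc ([0, 16, 15, 31].getD c 0, 0) ([(0, 0), (25, 1), (28, 3), mc (25, 1) (28, 3)].getD b (0, 0))) (0, a)
def rc (x : ℕ × ℕ) : ℕ := ml (inn x.1) (Vc x.2)

theorem g1 : (∀ X ∈ pz, X ∈ L4 ∧ X ∈ H17.AL.LT ∧ ((∃ m ∈ [3, 5, 6, 9, 10, 12], X = inn m ∧ cm m m = 16) ∨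
      ∃ Y ∈ [83, 115, 90, 94, 153, 157, 87, 119, 122, 126, 185, 189], Y ∈ L4 ∧ ml (ml Y 83) (iv Y) = X)) ∧
    (∀ X ∈ pt, X ∈ L4) ∧ pz.Nodup ∧ pt.Nodup ∧
    (∀ X ∈ H17.AL.LT, (sq2 X = 1672 → X ∈ pz ∨ X = 1672 ∨ X = inn 15) ∧ (sq2 X = inn 15 → X ∈ pt)) ∧
    83 ∈ L4 ∧ 119 ∈ L4 ∧ 1553 ∈ L4 ∧ 119 ∈ H17.AL.LT ∧ ml (ml (inn 1) 119) (iv (inn 1)) ∈ H17.AL.LT ∧ sq2 119 = inn 15 ∧
    am (inn 1) 15 = 15 ^^^ 16 ∧ ml 83 83 = 1672 ∧ ml (ml 1553 83) (iv 1553) = 538 ∧ ml (ml 1553 538) (iv 1553) = ml 83 538 ∧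
    ml 83 538 = 1217 := by decide +kernel

theorem g2 : (∀ a < 4, ∀ b < 4, ∀ c < 4, (uc a b c).1 < 32 ∧ (uc a b c).2 < 4 ∧ (uc a b c = (0, 0) → a = 0 ∧ b = 0 ∧ c = 0) ∧
      rc (uc a b c) ∈ H17.AL.LT ∧ ∀ a' < 4, ∀ b' < 4, ∀ c' < 4,
        mc (uc a b c) (uc a' b' c') = uc (a ^^^ a') (b ^^^ b') (c ^^^ c' ^^^ fm a b')) ∧
    (∀ X ∈ H17.AL.LT, ∃ a < 4, ∃ b < 4, ∃ c < 4, rc (uc a b c) = X) ∧ uc 0 0 1 = (16, 0) ∧
    (∀ a < 4, ∀ c < 4, ∃ b < 4, ∃ c' < 4, mc (8, 0) (uc a 0 c) = mc (uc 0 b c') (8, 0)) ∧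
    (∀ m < 32, ∀ k < 4, rc (m, k) = 1672 → k = 0) ∧ (∀ a < 4, ∀ b < 4, a ^^^ b < 4 ∧ fm a b < 4) := by decide +kernel

theorem f4 (F : Type v) [Field F] [Fintype F] (hF : Fintype.card F = 4) : ∃ κ : F → ℕ, (∀ a, κ a < 4) ∧
    (∀ a b, κ (a + b) = κ a ^^^ κ b) ∧ (∀ a b, κ (a * b) = fm (κ a) (κ b)) ∧ (∀ a, κ a = 0 → a = 0) ∧ κ 0 = 0 ∧ κ 1 = 1 ∧
    ∀ i < 4, ∃ a, κ a = i := by
  classical
  have h2 : (2 : F) = 0 := by
    have := FiniteField.cast_card_eq_zero F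
    rw [hF] at this
    exact pow_eq_zero_iff (n := 2) (by norm_num) |>.1 (by rw [← this]; norm_num)
  have h4 : ∀ a : F, a ^ 4 = a := fun a => hF ▸ FiniteField.pow_card a
  obtain ⟨ω, h0, h1⟩ : ∃ ω : F, ω ≠ 0 ∧ ω ≠ 1 := by
    by_contra! a
    have : (Finset.univ : Finset F) ⊆ {0, 1} := fun x _ => by
      by_cases c : x = 0 <;> simp [c, a]
    have := (Finset.card_le_card this).trans Finset.card_le_two
    rw [Finset.card_univ, hF] at this; omega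
  have hw : ω * ω = ω + 1 := by
    have : ω * (ω - 1) * (ω * ω - (ω + 1)) = 0 := by linear_combination h4 ω + (-ω ^ 3 + ω) * h2
    simpa [h0, sub_eq_zero, h1] using this
  let f : ℕ → F := fun i => [0, 1, ω, ω + 1].getD i 0
  have n3 : ω + 1 ≠ 0 := fun a => h1 (by linear_combination a - h2)
  have n4 : ω + 1 ≠ 1 := by simpa using h0
  have n5 : ω + 1 ≠ ω := by simp
  have fi : ∀ i < 4, ∀ j < 4, f i = f j → i = j := fun i hi j hj => by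
    interval_cases i <;> interval_cases j <;> simp [f, h0, h1, n3, h0.symm, h1.symm, n3.symm]
  have fs : ∀ a, ∃ i < 4, f i = a := fun a => by
    have : a * (a - 1) * (a - ω) * (a - (ω + 1)) = 0 := by
      linear_combination h4 a + (a ^ 2 - a) * hw + (-a ^ 3 * ω - a ^ 3 + 2 * a ^ 2 * ω + a ^ 2 - a * ω) * h2
    simp only [mul_eq_zero, sub_eq_zero] at this
    rcases this with ((rfl | rfl) | rfl) | rfl
    exacts [⟨0, by norm_num, rfl⟩, ⟨1, by norm_num, rfl⟩, ⟨2, by norm_num, rfl⟩, ⟨3, by norm_num, rfl⟩]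
  have fa : ∀ i < 4, ∀ j < 4, f (i ^^^ j) = f i + f j ∧ f (fm i j) = f i * f j := fun i hi j hj => by
    interval_cases i <;> interval_cases j <;> simp [f, fm] <;> grind
  choose κ k1 k2 using fs
  have kf : ∀ i < 4, κ (f i) = i := fun i hi => fi _ (k1 _) _ hi (k2 _)
  refine ⟨κ, k1, fun a b => ?_, fun a b => ?_, fun a h => by rw [← k2 a, h]; rfl, kf 0 (by norm_num), kf 1 (by norm_num),
    fun i hi => ⟨_, kf i hi⟩⟩
  · rw [← kf _ (g2.2.2.2.2.2 _ (k1 a) _ (k1 b)).1, (fa _ (k1 a) _ (k1 b)).1, k2, k2]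
  · rw [← kf _ (g2.2.2.2.2.2 _ (k1 a) _ (k1 b)).2, (fa _ (k1 a) _ (k1 b)).2, k2, k2]

section
variable {Γ : Type u} [Group Γ] [HasDistribNeg Γ] {e : Fin 4 → Γ} (M : Md e)
include M

theorem sqz {w : Γ} (h1 : ρ e w = 83) (s1 : w * w = -1) {h : Γ} (hh : ρ e h ∈ pz) : h * h = -1 := by
  rcases (g1.1 _ hh).2.2 with ⟨m, hm, a, b⟩ | ⟨Y, -, hY, a⟩
  · have hm' : m < 32 := by simp at hm; omega
    have := M.mo_mul hm' hm'
    rw [b, mo16] at this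
    rcases M.pmo hm' a with rfl | rfl <;> simp [this]
  · obtain ⟨y, rfl⟩ := M.surj hY
    rw [← h1, ← M.ρ_inv, ← M.ρ_mul, ← M.ρ_mul] at a
    have : y * w * y⁻¹ * (y * w * y⁻¹) = -1 := by rw [conj_mul, s1]; simp
    rcases M.ρ_inj a.symm with rfl | rfl <;> simp only [neg_mul_neg, this]

theorem root {h : Γ} (hh : ρ e h = inn 15) : ∃ y ∈ M.TT, y * y = h := by
  obtain ⟨y, hy⟩ := M.surj g1.2.2.2.2.2.2.1
  have a : ρ e h = ρ e (y * y) := by rw [M.ρ_mul, hy, hh]; exact g1.2.2.2.2.2.2.2.2.2.2.1.symm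
  rcases M.ρ_inj a with rfl | b
  · exact ⟨y, by rw [M.mem_TT, hy]; exact g1.2.2.2.2.2.2.2.2.1, rfl⟩
  · refine ⟨mo e 1 * y * (mo e 1)⁻¹, ?_, ?_⟩
    · rw [M.mem_TT, M.ρ_mul, M.ρ_mul, M.ρ_inv, M.ρ_mo (by norm_num), hy]; exact g1.2.2.2.2.2.2.2.2.2.1
    · have c := M.conj_mo (mo e 1) (m := 15) (by norm_num)
      rw [M.ρ_mo (by norm_num), g1.2.2.2.2.2.2.2.2.2.2.2.1, mo_neg (by norm_num)] at c
      rw [conj_mul, b]
      rcases M.pmo (m := 15) (by norm_num) (a.symm.trans hh) with d | d <;> rw [d] <;> simp [c]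

theorem right {w : Γ} (h1 : ρ e w = 83) (s1 : w * w = 1) : ∃ W : ℕ × ℕ → Γ,
    (∀ x y : ℕ × ℕ, x.1 < 32 → x.2 < 4 → y.1 < 32 → y.2 < 4 → W x * W y = W (mc x y)) ∧
    (∀ x : ℕ × ℕ, x.1 < 32 → x.2 < 4 → ρ e (W x) = rc x) ∧ (∀ m, W (m, 0) = mo e m) := by
  obtain ⟨d, hd⟩ := M.surj g1.2.2.2.2.2.2.2.1
  obtain ⟨c1, c2, c3⟩ := g1.2.2.2.2.2.2.2.2.2.2.2.2.2
  obtain ⟨w2, hw2⟩ : ∃ w2, w2 = d * w * d⁻¹ := ⟨_, rfl⟩
  have h2 : ρ e w2 = 538 := by rw [hw2, M.ρ_mul, M.ρ_mul, M.ρ_inv, hd, h1, c1]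
  have s2 : w2 * w2 = 1 := by rw [hw2, conj_mul, s1]; simp
  have s3 : w * w2 * (w * w2) = 1 := by
    have : d * w2 * d⁻¹ * (d * w2 * d⁻¹) = 1 := by rw [conj_mul, s2]; simp
    rcases M.ρ_inj (show ρ e (w * w2) = ρ e (d * w2 * d⁻¹) by
      rw [M.ρ_mul, M.ρ_mul, M.ρ_mul, M.ρ_inv, hd, h1, h2, c2]) with a | a <;> rw [a] <;> simp only [neg_mul_neg, this]
  have cc : w2 * w = w * w2 := by
    calc w2 * w = (w * w) * (w2 * w) * (w2 * w2) := by rw [s1, s2]; simp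
      _ = w * (w * w2 * (w * w2)) * w2 := by group
      _ = _ := by rw [s3]; simp
  let V : ℕ → Γ := fun k => [1, w, w2, w * w2].getD k 1
  have l : ∀ {x y z : Γ}, x * y = z → ∀ t, x * (y * t) = z * t := fun h t => by rw [← mul_assoc, h]
  have hV : ∀ k < 4, ∀ j < 4, V k * V j = V (k ^^^ j) := fun k hk j hj => by
    interval_cases k <;> interval_cases j <;> simp [V, mul_assoc, s1, s2, cc, l s1, l s2, l cc]
  have hρ : ∀ k < 4, ρ e (V k) = Vc k := fun k hk => by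
    interval_cases k <;> simp [V, Vc, M.ρ_one, h1, h2, M.ρ_mul, c3]
  refine ⟨fun x => mo e x.1 * V x.2, fun x y a b c d => ?_, fun x a b => ?_, fun m => by simp [V]⟩
  · have := M.conj_mo (V x.2) c
    have lt := M.am_lt (V x.2) c
    rw [hρ _ b] at this lt
    change _ = mo e (cm x.1 (am (Vc x.2) y.1)) * V (x.2 ^^^ y.2)
    rw [← M.mo_mul a lt, ← this, ← hV _ b _ d]; group
  · rw [M.ρ_mul, M.ρ_mo a, hρ _ b]; rfl

end

theorem d : H17.AL.DStmt.{u, v} := by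
  intro G _ _ F _ _ hF z h2 e M T hT wk
  letI := hdn z h2
  have neg : ((-1 : centralizer ({z} : Set G)) : G) = z := mul_one z
  obtain ⟨w, h1⟩ := M.surj g1.2.2.2.2.2.1
  rcases M.pm1 (h := w * w) (by rw [M.ρ_mul, h1]; exact g1.2.2.2.2.2.2.2.2.2.2.2.2.1) with s1 | s1
  · right
    obtain ⟨W, mul, rr, w0⟩ := right M h1 s1
    obtain ⟨κ, k4, ka, km, k0, k00, k1, ks⟩ := f4 F hF
    have G2 := fun a b c => g2.1 _ (k4 a) _ (k4 b) _ (k4 c)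
    have z1 : z = W (uc (κ 0) (κ 0) (κ 1)) := by rw [k00, k1, g2.2.2.1, w0, mo16, neg]
    refine ⟨fun a b c => W (uc (κ a) (κ b) (κ c)), fun a b c a' b' c' => ?_, fun a b c h => ?_, ?_, z1, fun a c => ?_⟩
    · rw [← coe_mul, mul _ _ (G2 a b c).1 (G2 a b c).2.1 (G2 a' b' c').1 (G2 a' b' c').2.1,
        (G2 a b c).2.2.2.2 _ (k4 a') _ (k4 b') _ (k4 c')]
      simp only [ka, km]
    · have h' : W (uc (κ a) (κ b) (κ c)) = 1 := Subtype.ext h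
      have r := rr _ (G2 a b c).1 (G2 a b c).2.1
      rw [h', M.ρ_one] at r
      have a2 := g2.2.2.2.2.1 _ (G2 a b c).1 _ (G2 a b c).2.1 r.symm
      have a1 : (uc (κ a) (κ b) (κ c)).1 = 0 := M.mo_inj (G2 a b c).1 (by norm_num) (by
        rw [mo0, ← h', ← w0, ← a2])
      obtain ⟨x, y, t⟩ := (G2 a b c).2.2.1 (Prod.ext a1 a2)
      exact ⟨k0 _ x, k0 _ y, k0 _ t⟩
    · rw [hT]
      refine le_antisymm ((closure_le _).2 ?_) ?_
      · rintro _ ⟨a, b, c, rfl⟩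
        exact ⟨_, by rw [SetLike.mem_coe, M.mem_TT, rr _ (G2 a b c).1 (G2 a b c).2.1]; exact (G2 a b c).2.2.2.1, rfl⟩
      · rintro _ ⟨x, hx, rfl⟩
        obtain ⟨a, ha, b, hb, c, hc, r⟩ := g2.2.1 _ hx
        obtain ⟨a, rfl⟩ := ks a ha
        obtain ⟨b, rfl⟩ := ks b hb
        obtain ⟨c, rfl⟩ := ks c hc
        rw [← rr _ (G2 a b c).1 (G2 a b c).2.1] at r
        rcases M.ρ_inj r.symm with rfl | rfl
        · exact subset_closure ⟨a, b, c, rfl⟩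
        · exact mul_mem (subset_closure ⟨0, 0, 1, z1.symm⟩) (subset_closure ⟨a, b, c, rfl⟩)
    · obtain ⟨b, hb, c', hc, r⟩ := g2.2.2.2.1 _ (k4 a) _ (k4 c)
      obtain ⟨b, rfl⟩ := ks b hb
      obtain ⟨c', rfl⟩ := ks c' hc
      refine ⟨b, c', mul_inv_eq_iff_eq_mul.2 ?_⟩
      have e3 : e 3 = W (8, 0) := by rw [w0]; simp [mo]
      rw [← k00] at r
      rw [e3, ← coe_mul, ← coe_mul, mul _ _ (by norm_num) (by norm_num) (G2 a 0 c).1 (G2 a 0 c).2.1,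
        mul _ _ (G2 0 b c').1 (G2 0 b c').2.1 (by norm_num) (by norm_num)]
      simp only [k00] at r ⊢
      rw [r]
  · left
    intro g hg
    obtain ⟨h, hh, e1⟩ := hT.le hg
    change (h : G) = _ at e1
    have hh2 : h * h = 1 := Subtype.ext (by rw [coe_mul, e1, conj_mul, h2]; simp)
    rcases (g1.2.2.2.2.1 _ hh).1 (by rw [sq2, ← M.ρ_mul, hh2, M.ρ_one]) with a | a | a
    · exact (M.ne (hh2.symm.trans (sqz M h1 s1 a))).elim
    · rcases M.pm1 a with rfl | rfl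
      · exact (M.ne (Subtype.ext (by rw [neg]; exact (conj_eq_one_iff.1 e1.symm).symm))).elim
      · rw [← e1, neg]
    exfalso
    obtain ⟨y, hy, e2⟩ := root M a
    have hN := wk y (hT.ge ⟨y, hy, rfl⟩) g (by rw [← e1, ← e2]; rfl)
    have : ∀ x : {x // ρ e x ∈ pz}, ∃ x' : {x // ρ e x ∈ pt}, (x'.1 : G) = g * x.1 * g⁻¹ := fun x => by
      obtain ⟨x', hx, e3⟩ := hT.le ((mem_normalizer_iff.1 hN _).1 (hT.ge ⟨x.1, (g1.1 _ x.2).2.1, rfl⟩))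
      change (x' : G) = g * x.1 * g⁻¹ at e3
      have : x' * x' = h := Subtype.ext (by rw [coe_mul, e3, conj_mul, ← coe_mul, sqz M h1 s1 x.2, neg, e1])
      exact ⟨⟨x', (g1.2.2.2.2.1 _ hx).2 (by rw [sq2, ← M.ρ_mul, this, a])⟩, e3⟩
    choose φ hφ using this
    have := Nat.card_le_card_of_injective φ fun x x' r => Subtype.ext (Subtype.ext (by
      have := hφ x
      rw [r, hφ x'] at this
      simpa using this.symm))
    rw [M.count g1.2.2.1 fun X h => (g1.1 X h).1, M.count g1.2.2.2.1 g1.2.1] at this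
    simp [pz, pt] at this

end H04.ALD
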