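import Cfsg.Agent.H04.BG4
import Cfsg.Agent.H27.ClassSize

/-! Patterson's bound `n²/4` for the number of generators of a `p`-group of automorphisms of an abelian group of
order `pⁿ`, the rank of `p`-central groups, and MacWilliams' bound `k(k+4)/4`. -/

set_option autoImplicit false
open Subgroup Cfsg
open scoped commutatorElement

namespace H04.Pat

universe u
variable {G : Type*} [Group G] [Finite G] {p : ℕ} [hp : Fact p.Prime]

local notation "C_(" X ")" => Subgroup.centralizer ((X : Subgroup G) : Set G)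

theorem gen_index (hG : IsPGroup p G) (K : Subgroup G) (b : ℕ) : ∀ D : Subgroup G, D.relIndex K ≤ p ^ b →
    ∃ T : Finset G, (T : Set G) ⊆ K ∧ T.card ≤ b ∧ K ≤ closure (T : Set G) ⊔ D := by
  classical
  induction b with
  | zero => exact fun D h => ⟨∅, by simp, le_rfl, (relIndex_eq_one.1 (le_antisymm (by simpa using h)
      (Nat.pos_of_ne_zero FiniteIndex.index_ne_zero))).trans le_sup_right⟩
  | succ b ih =>
    intro D h
    by_cases e : K ≤ D
    · exact ⟨∅, by simp, by simp, e.trans le_sup_right⟩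
    obtain ⟨x, hx, hx'⟩ := SetLike.not_le_iff_exists.1 e
    have h1 : D ⊓ K ⊔ zpowers x ≤ K := sup_le inf_le_right (zpowers_le.2 hx)
    obtain ⟨T, t1, t2, t3⟩ := ih (D ⊓ K ⊔ zpowers x) (by
      rw [← inf_relIndex_right, ← relIndex_mul_relIndex _ _ _ le_sup_left h1, pow_succ'] at h
      refine Nat.le_of_mul_le_mul_left ((Nat.mul_le_mul_right _ ?_).trans h) hp.out.pos
      have := mul_card_le_of_lt (hG.to_subgroup (D ⊓ K ⊔ zpowers x)) (H := D ⊓ K)
        (lt_of_le_of_ne le_sup_left fun e => hx' (e.ge (mem_sup_right (mem_zpowers x))).1)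
      rw [← H01.card_mul_relIndex (le_sup_left : D ⊓ K ≤ D ⊓ K ⊔ zpowers x), mul_comm] at this
      exact Nat.le_of_mul_le_mul_left this Nat.card_pos)
    refine ⟨insert x T, by simpa [Set.insert_subset_iff] using ⟨hx, t1⟩, (Finset.card_insert_le _ _).trans (by omega),
      t3.trans (sup_le ((Subgroup.closure_mono (by simp)).trans le_sup_left) (sup_le (inf_le_left.trans le_sup_right)
        (zpowers_le.2 (mem_sup_left (subset_closure (by simp))))))⟩

theorem comb (hG : IsPGroup p G) {K L : Subgroup G} {S : Finset G} {b : ℕ} (h : closure (S : Set G) ⊔ K = ⊤)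
    (h' : (L ⊔ ⁅K, ⊤⁆).relIndex K ≤ p ^ b) : ∃ S' : Finset G, S'.card ≤ S.card + b ∧ closure (S' : Set G) ⊔ L = ⊤ := by
  classical
  obtain ⟨T, -, t2, t3⟩ := gen_index hG K b _ h'
  refine ⟨S ∪ T, (Finset.card_union_le _ _).trans (by omega), frattini_nongenerating (eq_top_iff.2 (h.ge.trans ?_))⟩
  rw [Finset.coe_union, Subgroup.closure_union]
  refine sup_le (le_sup_left.trans (le_sup_left.trans le_sup_left)) (t3.trans (sup_le (le_sup_right.trans
    (le_sup_left.trans le_sup_left)) (sup_le (le_sup_right.trans le_sup_left) (le_trans ?_ le_sup_right))))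
  exact (commutator_mono le_top le_rfl).trans (commutator_le_frattini hG)

theorem pair (hG : IsPGroup p G) {A B W : Subgroup G} (hW : Nat.card W = p) (h : ⁅A, B⁆ ≤ W) :
    C_(B).relIndex A ≤ C_(A).relIndex B := by
  obtain ⟨r, hr⟩ := (Nat.dvd_prime_pow hp.out).1 ((relIndex_dvd_card C_(A) B).trans (card_eq_pow hG B).choose_spec.dvd)
  obtain ⟨T, t1, t2, t3⟩ := gen_index hG B r _ hr.2.le
  have e : (⨅ t : T, H27.cent (t : G)) ⊓ A ≤ C_(B) := fun a ha y hy => H27.mem_cent.1
    (t3.trans (sup_le (a := closure (T : Set G)) (c := H27.cent a) ((closure_le _).2 fun t ht => H27.mem_cent_comm.1 (mem_iInf.1 ha.1 ⟨t, ht⟩))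
      (centralizer_le (by simpa using ha.2))) hy)
  rw [hr.2]
  refine (relIndex_le_of_le_left e FiniteIndex.index_ne_zero).trans ?_
  rw [inf_relIndex_right]
  refine (relIndex_iInf_le _).trans ((Finset.prod_le_pow_card _ _ p fun t _ => ?_).trans
    (Nat.pow_le_pow_right hp.out.pos (by simpa)))
  rw [← H27.card_orbit_eq_relIndex, ← hW]
  exact Nat.card_le_card_of_injective (fun y => ⟨y.1 * (t : G)⁻¹, by
    obtain ⟨a, ha, e⟩ := y.2
    exact e ▸ h (commutator_mem_commutator ha (t1 t.2))⟩) fun y z e => Subtype.ext (by simpa using e)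

theorem step1 (hG : IsPGroup p G) {V W K : Subgroup G} [V.Normal] [K.Normal] (hW : Nat.card W = p) (hz : W ≤ center G)
    (h : ⁅V, K⁆ ≤ W) (hK : C_(V) ≤ K) : ∃ X C : Subgroup G, X.Normal ∧ C.Normal ∧ X ≤ C ∧ C ≤ V ∧ ⁅C, ⊤⁆ ≤ X ∧
      (C_(V) ⊔ ⁅K, ⊤⁆).relIndex K ≤ X.relIndex C := by
  obtain ⟨D, hD⟩ : ∃ D, D = C_(V) ⊔ ⁅K, ⊤⁆ := ⟨_, rfl⟩
  have : D.Normal := hD ▸ inferInstance
  have d1 : D ≤ K := hD ▸ sup_le hK (commutator_le_left _ _)
  have d2 : C_(K) ≤ C_(D) := centralizer_le d1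
  refine ⟨V ⊓ C_(K), V ⊓ C_(D), inferInstance, inferInstance, inf_le_inf_left _ d2, inf_le_left,
    le_inf ((commutator_le_left _ _).trans inf_le_left) ?_, ?_⟩
  · rw [← commutator_eq_bot_iff_le_centralizer]
    refine commutator_commutator_eq_bot_of_rotate ?_ ?_
    · rw [commutator_comm, commutator_eq_bot_iff_le_centralizer]
      exact inf_le_right.trans (centralizer_le (SetLike.coe_subset_coe.2 (by rw [commutator_comm, hD]; exact le_sup_right)))
    · rw [commutator_eq_bot_iff_le_centralizer, commutator_comm]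
      exact ((commutator_mono inf_le_left le_rfl).trans (h.trans hz)).trans (center_le_centralizer _)
  have h1 := pair hG hW (commutator_comm V K ▸ h)
  have h2 := pair hG hW ((commutator_mono le_rfl d1).trans h)
  rw [← relIndex_mul_relIndex _ D _ (hD ▸ le_sup_left) d1, ← inf_relIndex_left V, ← relIndex_mul_relIndex _ (V ⊓ C_(D)) _
    (inf_le_inf_left _ d2) inf_le_left, inf_relIndex_left V C_(D), mul_comm] at h1
  rw [← hD]
  exact Nat.le_of_mul_le_mul_right (h1.trans (Nat.mul_le_mul_left _ h2)) (Nat.pos_of_ne_zero FiniteIndex.index_ne_zero)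

theorem step2 (hG : IsPGroup p G) {V U : Subgroup G} [V.Normal] [U.Normal] (hV : IsMulCommutative V) (hU : U ≤ V)
    (hc : Nat.card V = p * Nat.card U) : ∃ X C : Subgroup G, X.Normal ∧ C.Normal ∧ X ≤ C ∧ C ≤ V ∧ ⁅C, ⊤⁆ ≤ X ∧
      (C_(V) ⊔ ⁅C_(U), ⊤⁆).relIndex C_(U) ≤ X.relIndex C := by
  obtain ⟨v, hv, -, v1, -, v2⟩ := exists_sup_zpowers_eq_of_card (hG.to_subgroup V) hU hc
  obtain ⟨V', -, -, a, b, c⟩ := exists_normal_card_mul hG U V (lt_of_le_of_ne hU fun e => v1 (e ▸ hv))
  obtain rfl : V' = V := eq_of_le_of_card_le a (by rw [b, hc])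
  have m : ∀ g, ⁅g, v⁆ ∈ U := fun g => commutator_comm V' ⊤ ▸ c <| commutator_mem_commutator (mem_top g) hv
  let f : C_(U) →* G := MonoidHom.mk' (fun k => ⁅(k : G), v⁆) fun k l => by
    calc _ = k * ⁅(l : G), v⁆ * (k : G)⁻¹ * ⁅(k : G), v⁆ := by simp only [commutatorElement_def, coe_mul]; group
      _ = _ := by rw [← k.2 _ (m l), mul_inv_cancel_right, isMulCommutative_iff'.1 hV _ (hU (m _)) _ (hU (m _))]
  have eq : ∀ (g : G) (k : C_(U)), g * f k * g⁻¹ = f ⟨g * k * g⁻¹, Normal.conj_mem inferInstance _ k.2 g⟩ := fun g k => by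
    have := (Normal.conj_mem inferInstance _ k.2 g : g * k * g⁻¹ ∈ C_(U)) _ (m g)
    calc _ = g * k * g⁻¹ * ⁅g, v⁆ * v * (g * k * g⁻¹)⁻¹ * v⁻¹ * ⁅g, v⁆⁻¹ := by
          simp only [f, MonoidHom.mk'_apply, commutatorElement_def]; group
      _ = ⁅g, v⁆ * ⁅g * k * g⁻¹, v⁆ * ⁅g, v⁆⁻¹ := by rw [← this, commutatorElement_def (g * k * g⁻¹)]; group
      _ = _ := by rw [isMulCommutative_iff'.1 hV _ (hU (m _)) _ (hU (m _)), mul_inv_cancel_right]; rfl
  have n : ∀ D : Subgroup G, D.Normal → ((D.subgroupOf C_(U)).map f).Normal := fun D hD => ⟨by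
    rintro _ ⟨k, hk, rfl⟩ g
    exact ⟨_, hD.conj_mem _ hk g, (eq g k).symm⟩⟩
  refine ⟨_, _, n (C_(V') ⊔ ⁅C_(U), ⊤⁆) inferInstance, n ⊤ inferInstance, map_mono (comap_mono le_top), ?_,
    commutator_le.2 ?_, ?_⟩
  · rintro _ ⟨k, -, rfl⟩; exact hU (m k)
  · rintro _ ⟨k, -, rfl⟩ g -
    refine ⟨k * (⟨g * k * g⁻¹, Normal.conj_mem inferInstance _ k.2 g⟩ : C_(U))⁻¹,
      mem_sup_right (?_ : _ ∈ ⁅C_(U), ⊤⁆), by rw [map_mul, map_inv, ← eq, commutatorElement_def]; group⟩
    convert commutator_mem_commutator k.2 (mem_top g) using 1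
    simp [commutatorElement_def, mul_assoc]
  · rw [relIndex_map_map, top_subgroupOf, top_sup_eq, relIndex_top_right, (sup_eq_left (b := f.ker)).2]
    · rfl
    intro k hk
    refine mem_sup_left (?_ : (k : G) ∈ C_(V'))
    rw [← v2, centralizer_sup, centralizer_zpowers]
    exact ⟨k.2, mem_centralizer_singleton_iff.2 (commutatorElement_eq_one_iff_mul_comm.1 hk)⟩

theorem pat (b j : ℕ) : ∀ (G : Type u) [Group G] [Finite G], IsPGroup p G → ∀ V X₀ C₀ : Subgroup G, V.Normal → X₀.Normal →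
    C₀.Normal → IsMulCommutative V → X₀ ≤ C₀ → C₀ ≤ V → ⁅C₀, ⊤⁆ ≤ X₀ → X₀.relIndex C₀ = p ^ b → Nat.card V = p ^ (b + j) →
    (∀ X C : Subgroup G, X.Normal → C.Normal → X ≤ C → C ≤ V → ⁅C, ⊤⁆ ≤ X → X.relIndex C ≤ p ^ b) →
    ∃ S : Finset G, S.card ≤ b * j ∧ closure (S : Set G) ⊔ centralizer (V : Set G) = ⊤ := by
  classical
  induction j with
  | zero =>
    intro G _ _ hG V X C _ _ _ hV h1 h2 h3 h4 h5 _
    have e := H01.card_mul_relIndex h1
    have := card_le_of_le h2
    rw [← e, h4, h5, add_zero] at this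
    have x : X = ⊥ := (card_le_one_iff_eq_bot X).1 (Nat.le_of_mul_le_mul_right (by simpa using this) (pow_pos hp.out.pos b))
    obtain rfl : C = V := eq_of_le_of_card_le h2 (by rw [← e, h4, h5, x]; simp)
    rw [x, le_bot_iff, commutator_comm, commutator_eq_bot_iff_le_centralizer] at h3
    exact ⟨∅, by simp, eq_top_iff.2 (h3.trans le_sup_right)⟩
  | succ j ih =>
    intro G _ _ hG V X C _ _ _ hV h1 h2 h3 h4 h5 h6
    rcases h2.eq_or_lt with rfl | h2'
    · obtain ⟨W, _, w1, w2⟩ := exists_normal_card_eq hG X 1 (by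
        have e := H01.card_mul_relIndex h1
        rw [h4, h5, pow_add, mul_comm, Nat.mul_right_inj (pow_pos hp.out.pos b).ne'] at e
        exact e ▸ Nat.pow_le_pow_right hp.out.pos (by omega))
      rw [pow_one] at w2
      have sf := QuotientGroup.mk'_surjective W
      obtain ⟨S, s1, s2⟩ := ih (G ⧸ W) (hG.to_quotient W) (C.map (QuotientGroup.mk' W)) (X.map (QuotientGroup.mk' W)) _
        (Normal.map ‹_› _ sf) (Normal.map ‹_› _ sf) (Normal.map ‹_› _ sf) inferInstance (map_mono h1) le_rfl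
        (by rw [← map_top_of_surjective _ sf, ← map_commutator]; exact map_mono h3)
        (by rw [relIndex_map_map, QuotientGroup.ker_mk', sup_eq_left.2 w1, sup_eq_left.2 (w1.trans h1), h4]) (by
          have e := H01.card_mul_relIndex (w1.trans h1)
          rw [w2, h5, ← add_assoc, pow_succ', Nat.mul_right_inj hp.out.ne_zero] at e
          rw [← e, ← relIndex_ker, QuotientGroup.ker_mk']) fun X' C' _ _ a c d => by
          have := h6 (X'.comap (QuotientGroup.mk' W)) (C'.comap (QuotientGroup.mk' W)) inferInstance inferInstance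
            (comap_mono a) ((comap_mono c).trans (by simp [comap_map_eq, w1.trans h1])) (by
              rwa [← map_le_iff_le_comap, map_commutator, map_comap_eq_self_of_surjective sf, map_top_of_surjective _ sf])
          rwa [relIndex_comap, map_comap_eq_self_of_surjective sf] at this
      have := Normal.map ‹C.Normal› _ sf
      obtain ⟨X', C', a1, a2, a3, a4, a5, a6⟩ := step1 hG (V := C) (K := (centralizer (C.map (QuotientGroup.mk' W) :
        Set (G ⧸ W))).comap (QuotientGroup.mk' W)) w2 (le_center_of_card_eq hG W w2) (by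
          rw [commutator_le_iff_map_quotient, map_comap_eq_self_of_surjective sf, commutator_comm,
            commutator_eq_bot_iff_le_centralizer]) (map_le_iff_le_comap.1 (map_centralizer_le_centralizer_image _ _))
      obtain ⟨S', t1, t2⟩ := comb hG (S := S.image Quotient.out) (by
        have := congrArg (comap (QuotientGroup.mk' W)) (show (closure ((S.image Quotient.out : Finset G) : Set G) ⊔
          (centralizer (C.map (QuotientGroup.mk' W) : Set (G ⧸ W))).comap (QuotientGroup.mk' W)).map (QuotientGroup.mk' W) = ⊤ by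
            rw [Subgroup.map_sup, map_comap_eq_self_of_surjective sf, MonoidHom.map_closure, ← s2]
            simp [Set.image_image])
        rwa [comap_map_eq_self ((ker_le_comap _ _).trans le_sup_right), comap_top] at this) (a6.trans (h6 _ _ a1 a2 a3 a4 a5))
      exact ⟨S', t1.trans (by have := Finset.card_image_le (s := S) (f := Quotient.out); nlinarith), t2⟩
    · obtain ⟨c, hc⟩ := card_eq_pow hG C
      have c1 : c ≤ b + j := by
        have := card_lt_of_lt h2'
        rw [hc, h5, Nat.pow_lt_pow_iff_right hp.out.one_lt] at this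
        omega
      obtain ⟨U, _, u1, u2, u3⟩ := exists_normal_between_card_eq hG C V h2 (b + j - c) (by
        rw [hc, h5, ← pow_add]; exact Nat.pow_le_pow_right hp.out.pos (by omega))
      rw [hc, ← pow_add, Nat.sub_add_cancel c1] at u3
      obtain ⟨S, s1, s2⟩ := ih G hG U X C ‹_› ‹_› ‹_› (isMulCommutative_of_le hV u2) h1 u1 h3 h4 u3
        fun X' C' a1 a2 a3 a4 => h6 X' C' a1 a2 a3 (a4.trans u2)
      obtain ⟨X', C', a1, a2, a3, a4, a5, a6⟩ := step2 hG hV u2 (by rw [h5, u3, ← add_assoc, pow_succ'])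
      obtain ⟨S', t1, t2⟩ := comb hG s2 (a6.trans (h6 _ _ a1 a2 a3 a4 a5))
      exact ⟨S', t1.trans (by nlinarith), t2⟩

theorem pat' (hG : IsPGroup p G) (V : Subgroup G) [V.Normal] (hV : IsMulCommutative V) {n : ℕ} (hn : Nat.card V = p ^ n) :
    ∃ S : Finset G, S.card ≤ n * n / 4 ∧ closure (S : Set G) ⊔ C_(V) = ⊤ := by
  obtain ⟨⟨X, C⟩, ⟨a1, a2, a3, a4, a5⟩, mx⟩ := Set.exists_max_image {q : Subgroup G × Subgroup G | q.1.Normal ∧ q.2.Normal ∧
    q.1 ≤ q.2 ∧ q.2 ≤ V ∧ ⁅q.2, ⊤⁆ ≤ q.1} (fun q => q.1.relIndex q.2) (Set.toFinite _)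
    ⟨(⊥, ⊥), inferInstance, inferInstance, le_rfl, bot_le, by simp⟩
  obtain ⟨b, b1, b2⟩ := (Nat.dvd_prime_pow hp.out).1 (((relIndex_dvd_card X C).trans (card_dvd_of_le a4)).trans hn.dvd)
  obtain ⟨j, rfl⟩ := Nat.exists_eq_add_of_le b1
  obtain ⟨S, s1, s2⟩ := pat b j G hG V X C ‹_› a1 a2 hV a3 a4 a5 b2 hn fun X' C' c1 c2 c3 c4 c5 =>
    b2 ▸ mx (X', C') ⟨c1, c2, c3, c4, c5⟩
  exact ⟨S, s1.trans ((Nat.le_div_iff_mul_le four_pos).2 (by nlinarith [sq_nonneg ((b : ℤ) - j)])), s2⟩

theorem pc1 (hp2 : p ≠ 2) (hG : IsPGroup p G) (n : ℕ) : ∀ H : Subgroup G, Nat.card H = n →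
    (∀ z ∈ H, z ^ p = 1 → z ∈ C_(H)) → ∀ x ∈ H, x ^ p ∈ C_(H) → ∀ y ∈ H, ⁅x, y⁆ ^ p = 1 := by
  induction n using Nat.strong_induction_on with
  | _ n ih =>
  intro H hn h x hx hx' y hy
  by_cases e : (zpowers x).subgroupOf H = ⊤
  · rw [commutatorElement_eq_one_iff_commute.2 (commute_of_zpowers_eq rfl (mem_zpowers x) (subgroupOf_eq_top.1 e hy)), one_pow]
  obtain ⟨M, m1, m2, m3⟩ := exists_index_eq_of_ne_top (hG.to_subgroup H) e
  have l := map_subtype_le M
  have a : x ∈ M.map H.subtype := ⟨⟨x, hx⟩, m1 (mem_zpowers x), rfl⟩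
  have b : y * x⁻¹ * y⁻¹ ∈ M.map H.subtype := ⟨_, m2.conj_mem _ (inv_mem (m1 (x := ⟨x, hx⟩) (mem_zpowers x))) ⟨y, hy⟩, rfl⟩
  have c := ih _ (by
    rw [card_map_of_injective H.subtype_injective, ← hn]
    exact H01.card_lt_of_ne_top fun e => hp.out.ne_one (by rw [← m3, e, index_top])) (M.map H.subtype) rfl
    (fun z hz e => centralizer_le l (h z (l hz) e)) x a (centralizer_le l hx') _ b
  replace c : ⁅y * x⁻¹ * y⁻¹, x⁆ ^ p = 1 := by rw [← commutatorElement_inv, inv_pow, c, inv_one]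
  have d := h ⁅y * x⁻¹ * y⁻¹, x⁆ (l (mul_mem (mul_mem (mul_mem b a) (inv_mem b)) (inv_mem a))) c
  rw [show ⁅x, y⁆ = x * (y * x⁻¹ * y⁻¹) by rw [commutatorElement_def]; group,
    mul_pow_prime_eq hp.out hp2 (d _ hx).symm (d _ (l b)).symm c, conj_pow, inv_pow, ← mul_assoc, ← mul_assoc, ← hx' y hy]
  group

theorem pc2 (hp2 : p ≠ 2) (n : ℕ) : ∀ (G : Type u) [Group G] [Finite G], Nat.card G = n → IsPGroup p G →
    (∀ z : G, z ^ p = 1 → z ∈ center G) → (frattini G).index ≤ Nat.card (omegaOne p (⊤ : Subgroup G)) := by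
  induction n using Nat.strong_induction_on with
  | _ n ih =>
  intro G _ _ hn hG h
  rcases subsingleton_or_nontrivial G with h0 | h0
  · rw [Subsingleton.elim (frattini G) ⊤, index_top]; exact Nat.card_pos
  have z : ∀ x : G, x ∈ omegaOne p (⊤ : Subgroup G) ↔ x ^ p = 1 := fun x => ⟨pow_eq_one_of_mem_omegaOne fun x _ y _ a b => by
    rw [(commute_of_mem_center (h x a) y).mul_pow, a, b, mul_one], mem_omegaOne (mem_top x)⟩
  have := omegaOne_normal (p := p) (⊤ : Subgroup G)
  have z0 := omegaOne_ne_bot (hG.to_subgroup ⊤) top_ne_bot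
  generalize omegaOne p (⊤ : Subgroup G) = Z at *
  have k : ∀ x : G, (x : G ⧸ Z) ^ p = 1 → ∀ y : G, ⁅x, y⁆ ^ p = 1 := fun x hx y => pc1 hp2 hG _ ⊤ rfl
    (fun z _ e => center_le_centralizer _ (h z e)) x trivial
    (center_le_centralizer _ (h _ ((z _).1 ((QuotientGroup.eq_one_iff _).1 hx)))) y trivial
  have k2 : ∀ x : G ⧸ Z, x ^ p = 1 → x ∈ center _ := fun x hx => mem_center_iff.2 fun y => by
    obtain ⟨x, rfl⟩ := QuotientGroup.mk_surjective x
    obtain ⟨y, rfl⟩ := QuotientGroup.mk_surjective y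
    exact (commutatorElement_eq_one_iff_mul_comm.1 ((QuotientGroup.eq_one_iff ⁅x, y⁆).2 ((z _).2 (k x hx y)))).symm
  have h1 := ih _ (hn ▸ H01.card_quotient_lt Z z0) (G ⧸ Z) rfl (hG.to_quotient Z) k2
  have z' : ∀ x : omegaOne p (⊤ : Subgroup (G ⧸ Z)), ((x.1.out : G) : G ⧸ Z) ^ p = 1 := fun x => by
    rw [QuotientGroup.out_eq']
    exact pow_eq_one_of_mem_omegaOne (fun x _ y _ a b => by
      rw [(commute_of_mem_center (k2 x a) y).mul_pow, a, b, mul_one]) x.2
  have h2 : Nat.card (omegaOne p (⊤ : Subgroup (G ⧸ Z))) ≤ Nat.card ↥(frattini G ⊓ Z) :=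
    Nat.card_le_card_of_injective (fun x => ⟨x.1.out ^ p, pow_mem_frattini hG _, (QuotientGroup.eq_one_iff _).1 (z' x)⟩)
      fun x y e => Subtype.ext (by
        have c := k _ (z' y) x.1.out⁻¹
        have c' := commute_of_mem_center (h _ c)
        have := mul_pow_prime_eq hp.out hp2 (c' _) (c' _) c
        rw [inv_pow, show x.1.out ^ p = y.1.out ^ p from congrArg Subtype.val e, inv_mul_cancel, ← z] at this
        rw [← x.1.out_eq', ← y.1.out_eq']
        exact QuotientGroup.eq.2 this)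
  rw [← index_comap_of_surjective _ (QuotientGroup.mk'_surjective Z), frattini_quotient hG] at h1
  rw [← relIndex_mul_index (le_sup_left : frattini G ≤ frattini G ⊔ Z), relIndex_sup_left,
    ← H01.card_mul_relIndex (inf_le_right : frattini G ⊓ Z ≤ Z), inf_relIndex_right, mul_comm]
  exact Nat.mul_le_mul_right _ (h1.trans h2)

theorem card_cl {E : Subgroup G} (hE : IsElementaryAbelian p E) (S : Finset G) (h : (S : Set G) ⊆ E) :
    Nat.card (closure (S : Set G)) ≤ p ^ S.card := by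
  classical
  induction S using Finset.induction_on with
  | empty => simp
  | insert x S hx ih =>
    rw [Finset.coe_insert, Set.insert_subset_iff] at h
    rw [Finset.coe_insert, Finset.card_insert_of_notMem hx, Set.insert_eq, Subgroup.closure_union, ← zpowers_eq_closure,
      sup_comm, pow_succ']
    refine le_trans ?_ (Nat.mul_le_mul_left p (ih h.2))
    by_cases e : x ∈ closure (S : Set G)
    · rw [sup_eq_left.2 (zpowers_le.2 e)]; exact Nat.le_mul_of_pos_left _ hp.out.pos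
    · exact (card_sup_zpowers _ (centralizer_le_normalizer _ fun y hy => isMulCommutative_iff'.1 hE.1 _
        ((closure_le E).2 h.2 hy) _ h.1) e (by rw [hE.2 x h.1]; exact one_mem _)).le

theorem macw (hp2 : p ≠ 2) (hG : IsPGroup p G) (k : ℕ) (hab : ∀ A : Subgroup G, A.Normal → IsMulCommutative A →
    ∃ S : Finset G, S.card ≤ k ∧ closure (S : Set G) = A) (H : Subgroup G) :
    ∃ S : Finset G, S.card ≤ k * (k + 4) / 4 ∧ closure (S : Set G) = H := by
  classical
  obtain ⟨E, -, -, _, e1, e2⟩ := exists_maximal_normal_elemAb (p := p) (⊤ : Subgroup G) ⊥ inferInstance le_top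
    isElementaryAbelian_bot
  obtain ⟨n, hn⟩ := card_eq_pow hG E
  have nk : n ≤ k := by
    obtain ⟨S, s1, s2⟩ := hab E ‹_› e1.1
    have := card_cl e1 S (s2 ▸ Subgroup.subset_closure)
    rw [s2, hn, Nat.pow_le_pow_iff_right hp.out.one_lt] at this
    omega
  obtain ⟨S, s1, s2⟩ := pat' (hG.to_subgroup (H ⊔ E)) (E.subgroupOf _) (by have := e1.1; infer_instance)
    ((H01.card_subgroupOf_of_le le_sup_right).trans hn)
  have : ∀ s : ↥(H ⊔ E), ∃ h ∈ H, ∃ e ∈ E, h * e = s := fun s => (mul_normal H E).le s.2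
  choose f f1 g g1 f2 using this
  obtain ⟨D, hD⟩ : ∃ D, D = H ⊓ C_(E) := ⟨_, rfl⟩
  have d1 : ∀ z ∈ D, z ^ p = 1 → z ∈ E := fun z hz => mem_of_maximal_normal_elemAb hp2 hG ⊤ E le_top e1 e2 trivial (hD ▸ hz).2
  obtain ⟨T, -, t2, t3⟩ := gen_index (hG.to_subgroup D) ⊤ n (frattini D) (by
    rw [relIndex_top_right, ← hn]
    refine (pc2 hp2 _ D rfl (hG.to_subgroup D) fun z hz => mem_center_iff.2 fun y => Subtype.ext
      ((hD.le y.2).2 _ (d1 z z.2 (congrArg Subtype.val hz))).symm).trans ?_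
    rw [← card_map_of_injective D.subtype_injective, map_subtype_omegaOne_top]
    exact card_le_of_le (omegaOne_le_iff.2 d1))
  replace t3 := congrArg (map D.subtype) (frattini_nongenerating (eq_top_iff.2 t3))
  rw [MonoidHom.map_closure, ← MonoidHom.range_eq_map, range_subtype] at t3
  refine ⟨S.image f ∪ T.image D.subtype, (Finset.card_union_le _ _).trans ((add_le_add (Finset.card_image_le.trans s1)
    (Finset.card_image_le.trans t2)).trans ?_), ?_⟩
  · rw [mul_add, Nat.add_mul_div_right _ _ four_pos]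
    exact add_le_add (Nat.div_le_div_right (Nat.mul_le_mul nk nk)) nk
  have l : closure ((S.image f : Finset G) : Set G) ≤ H := (closure_le _).2 (by
    rw [Finset.coe_image]; rintro _ ⟨s, -, rfl⟩; exact f1 s)
  rw [Finset.coe_union, Subgroup.closure_union, Finset.coe_image (f := D.subtype), t3, hD, ← H02.inf_sup_normal_of_le' l,
    inf_eq_left]
  refine le_sup_left.trans (((range_subtype (H ⊔ E)).ge.trans (MonoidHom.range_eq_map _).le).trans ?_)
  rw [← s2, map_le_iff_le_comap]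
  refine sup_le ((closure_le _).2 fun s hs => ?_) fun c hc => mem_sup_right fun e he =>
    congrArg Subtype.val (hc ⟨e, mem_sup_right he⟩ he)
  have := e1.1
  show (s : G) ∈ closure ((S.image f : Finset G) : Set G) ⊔ C_(E)
  exact f2 s ▸ mul_mem_sup (Subgroup.subset_closure (Finset.mem_image_of_mem f hs)) (le_centralizer E (g1 s))

end H04.Pat
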