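import Mathlib
import Cfsg.Agent.H26.Syl

/-! A redundant Sylow `p`-subgroup of `GL_p(q)` when `p` divides `q - 1` exactly once. -/

set_option autoImplicit false
open Matrix Subgroup H26
open scoped H26 Pointwise

namespace H04.Red

variable {F : Type*} [Field F] {p : ℕ} [Fact p.Prime]

local notation "V" => ZMod p → F
local notation "Γ" => GL (ZMod p) F
local notation "ee" j => (Pi.single j 1 : ZMod p → F)

/-- `g e_j = d_j e_{π j}` -/
def Mon (g : Γ) (π : ZMod p → ZMod p) (d : V) : Prop := ∀ j, g.1 *ᵥ (ee j) = d j • (ee (π j))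

theorem Mon.ne {g : Γ} {π : ZMod p → ZMod p} {d : V} (h : Mon g π d) (j : ZMod p) : d j ≠ 0 := fun e => by
  have := congrArg ((g⁻¹ : Γ).1 *ᵥ ·) (h j)
  simp only [mulVec_mulVec, Units.inv_mul, one_mulVec, e, zero_smul, mulVec_zero] at this
  simpa using congrFun this j

theorem Mon.mul {g h : Γ} {π ρ : ZMod p → ZMod p} {d e : V} (hg : Mon g π d) (hh : Mon h ρ e) :
    Mon (g * h) (π ∘ ρ) (fun j => e j * d (ρ j)) := fun j => by
  rw [Units.val_mul, ← mulVec_mulVec, hh, mulVec_smul, hg, smul_smul]; rfl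

theorem Mon.one : Mon (1 : Γ) id (fun _ => (1 : F)) := fun j => by
  rw [Units.val_one, one_mulVec, one_smul]; rfl

theorem Mon.zero {g : Γ} {d : V} : Mon g (· + 0) d ↔ Mon g id d := by
  rw [show (fun x : ZMod p => x + 0) = id from funext fun x => add_zero x]

theorem Mon.pow {g : Γ} {π : ZMod p → ZMod p} {d : V} (hg : Mon g π d) (n : ℕ) : ∃ e, Mon (g ^ n) π^[n] e := by
  induction n with
  | zero => exact ⟨_, Mon.one⟩
  | succ n ih => obtain ⟨e, he⟩ := ih; exact ⟨_, pow_succ g n ▸ he.mul hg⟩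

theorem Mon.uniq {g : Γ} {π ρ : ZMod p → ZMod p} {d e : V} (hg : Mon g π d) (hh : Mon g ρ e) (j : ZMod p) :
    π j = ρ j ∧ d j = e j := by
  have := congrFun ((hg j).symm.trans (hh j)) (π j)
  by_cases h : π j = ρ j
  · exact ⟨h, by simpa [h] using this⟩
  · exact absurd (by simpa [h] using this) (hg.ne j)

theorem Mon.apply {g : Γ} {π : ZMod p → ZMod p} {d : V} (hg : Mon g π d) (i j : ZMod p) :
    g.1 i j = if i = π j then d j else 0 := by
  have := congrFun (hg j) i
  rw [mulVec_single_one, col_apply] at this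
  rw [this]; simp [Pi.single_apply]

theorem Mon.diag_pow {g : Γ} {d : V} (hg : Mon g id d) (n : ℕ) : Mon (g ^ n) id (fun j => d j ^ n) := by
  induction n with
  | zero => simpa using Mon.one
  | succ n ih => rw [pow_succ]; simpa [pow_succ'] using ih.mul hg

theorem Mon.eq_one {g : Γ} (hg : Mon g id (fun _ => (1 : F))) : g = 1 := Units.ext (by
  ext i j; rw [hg.apply, Units.val_one, one_apply]; rfl)

variable (F p) in
/-- the wreath product `C_p ≀ C_p` -/
def W [Finite F] : Subgroup Γ where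
  carrier := {g | ∃ (k : ZMod p) (d : V), (∀ j, d j ^ p = 1) ∧ Mon g (· + k) d}
  one_mem' := ⟨0, fun _ => 1, by simp, Mon.zero.2 Mon.one⟩
  mul_mem' := by
    rintro g h ⟨k, d, h1, h2⟩ ⟨l, e, h3, h4⟩
    refine ⟨l + k, _, fun j => ?_, by simpa [Function.comp_def, add_assoc] using h2.mul h4⟩
    rw [mul_pow, h1, h3, one_mul]
  inv_mem' := by
    rintro g ⟨k, d, h1, h2⟩
    refine ⟨-k, fun j => (d (j - k))⁻¹, fun j => by rw [inv_pow, h1, inv_one], fun j => ?_⟩
    have := congrArg ((g⁻¹ : Γ).1 *ᵥ ·) (h2 (j - k))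
    simp only [mulVec_mulVec, Units.inv_mul, one_mulVec, mulVec_smul, sub_add_cancel] at this
    beta_reduce
    rw [← sub_eq_add_neg, this, smul_smul, inv_mul_cancel₀ (h2.ne _), one_smul]

variable [Finite F]

theorem isPGroup_W : IsPGroup p (W F p) := isPGroup_iff_mem.2 (by
  rintro g ⟨k, d, h1, h2⟩
  obtain ⟨l, e, h3, h4⟩ : g ^ p ∈ W F p := pow_mem (show g ∈ W F p from ⟨k, d, h1, h2⟩) p
  obtain ⟨e', h5⟩ := h2.pow p
  have hl : l = 0 := by simpa using (h4.uniq h5 0).1
  subst hl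
  refine ⟨2, Mon.eq_one ?_⟩
  have := Mon.diag_pow (g := g ^ p) (d := e) (Mon.zero.1 h4) p
  simpa [h3, pow_two, pow_mul] using this)

theorem exists_mon (π : Equiv.Perm (ZMod p)) {d : V} (hd : ∀ j, d j ≠ 0) : ∃ g : Γ, Mon g π d := by
  let A : Matrix (ZMod p) (ZMod p) F := Matrix.of fun i j => if i = π j then d j else 0
  have hA : ∀ j, A *ᵥ (ee j) = d j • (ee (π j)) := fun j => by
    ext i; rw [mulVec_single_one, col_apply]; simp [A, Pi.single_apply]
  have : A.det ≠ 0 := fun h => by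
    obtain ⟨v, hv, e⟩ := exists_mulVec_eq_zero_iff.2 h
    apply hv; ext j
    have := congrFun e (π j)
    simpa [A, mulVec, dotProduct, hd j] using this
  exact ⟨GeneralLinearGroup.mkOfDetNeZero A this, hA⟩

theorem exists_third (hp : p ≠ 2) (a b : ZMod p) : ∃ c, c ≠ a ∧ c ≠ b := by
  have : 2 < Fintype.card (ZMod p) := by
    rw [ZMod.card]; have := (Fact.out : p.Prime).two_le; omega
  obtain ⟨c, hc⟩ := Finset.exists_mem_notMem_of_card_lt_card (s := {a, b}) (t := Finset.univ)
    (lt_of_le_of_lt Finset.card_le_two this)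
  exact ⟨c, by simpa using hc.2⟩

/-- the normaliser of `W` is monomial -/
theorem mon_of_norm (hp : p ≠ 2) {ζ : F} (hζ : ζ ^ p = 1) (hζ1 : ζ ≠ 1) {c : Γ} (hc : c ∈ normalizer (W F p : Set Γ))
    (j : ZMod p) : ∃ i₀, ∀ i, i ≠ i₀ → c.1 i j = 0 := by
  have hζ0 : ζ ≠ 0 := by rintro rfl; rw [zero_pow (Fact.out : p.Prime).ne_zero] at hζ; exact zero_ne_one hζ
  obtain ⟨r, hr⟩ := exists_mon (F := F) (1 : Equiv.Perm (ZMod p)) (d := fun i => if i = j then ζ else 1)
    (fun i => by split_ifs <;> simp [hζ0])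
  have hrW : r ∈ W F p := ⟨0, _, fun i => by split_ifs <;> simp [hζ], Mon.zero.2 hr⟩
  obtain ⟨k, d, -, hy⟩ := (mem_normalizer_iff.1 hc r).1 hrW
  have e : r.1 = 1 + (ζ - 1) • vecMulVec (ee j) (ee j) := by
    ext a b
    rw [hr.apply]
    by_cases h : a = b <;> by_cases h' : b = j <;> simp_all [vecMulVec_apply, one_apply, Pi.single_apply]
  have e2 : ∀ a b, (if a = b + k then d b else 0) =
      (1 : Matrix (ZMod p) (ZMod p) F) a b + (ζ - 1) * (c.1 a j * (c⁻¹ : Γ).1 j b) := fun a b => by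
    rw [← hy.apply, Units.val_mul, Units.val_mul, e, mul_add, add_mul, mul_one, Units.mul_inv, mul_smul_comm,
      smul_mul_assoc, mul_vecMulVec, vecMulVec_mul, mulVec_single_one, single_one_vecMul]
    rfl
  have hk : k = 0 := by
    by_contra hk
    have h1 : ∀ a, c.1 a j * (c⁻¹ : Γ).1 j a ≠ 0 := fun a h => by
      have := e2 a a
      rw [h, if_neg (by simpa using hk)] at this
      simp at this
    obtain ⟨a, ha, ha'⟩ := exists_third hp 0 k
    have := e2 a 0
    rw [if_neg (by simpa using ha'), one_apply_ne ha, zero_add] at this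
    exact mul_ne_zero (sub_ne_zero.2 hζ1) (mul_ne_zero (left_ne_zero_of_mul (h1 a)) (right_ne_zero_of_mul (h1 0)))
      this.symm
  subst hk
  have : ∃ b, (c⁻¹ : Γ).1 j b ≠ 0 := by
    by_contra h
    push Not at h
    have := congrFun (congrFun (Units.inv_mul c) j) j
    rw [mul_apply, Finset.sum_eq_zero fun b _ => by rw [h b, zero_mul], one_apply_eq] at this
    exact zero_ne_one this
  obtain ⟨b, hb⟩ := this
  refine ⟨b, fun a ha => ?_⟩
  have := e2 a b
  rw [if_neg (by simpa using ha), one_apply_ne ha, zero_add] at this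
  exact ((mul_eq_zero.1 ((mul_eq_zero.1 this.symm).resolve_left (sub_ne_zero.2 hζ1))).resolve_right hb)

theorem isSyl_W (hp : p ≠ 2) {ζ : F} (hζ : ζ ^ p = 1) (hζ1 : ζ ≠ 1) (h2 : ∀ (a : F) (k : ℕ), a ^ p ^ k = 1 → a ^ p = 1) :
    IsSyl p (W F p) ⊤ := by
  refine ⟨le_top, isPGroup_W, fun Q hQ h1 _ => le_antisymm (le_of_inf_normalizer_le hQ h1 ?_) h1⟩
  rintro g ⟨hgQ, hg⟩
  choose π hπ using mon_of_norm hp hζ hζ1 hg
  have hm : Mon g π (fun j => g.1 (π j) j) := fun j => by
    ext i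
    rw [mulVec_single_one, col_apply]
    by_cases h : i = π j
    · simp [h]
    · simp [h, hπ j i h]
  have hs : ∀ t : ZMod p, ∃ s ∈ W F p, Mon s (· + t) (fun _ => (1 : F)) := fun t => by
    obtain ⟨s, hs⟩ := exists_mon (F := F) (Equiv.addRight t) (d := fun _ => 1) (fun _ => one_ne_zero)
    exact ⟨s, ⟨t, _, by simp, hs⟩, hs⟩
  obtain ⟨s, hsW, hs1⟩ := hs 1
  obtain ⟨m, d, -, hy⟩ := (mem_normalizer_iff.1 hg s).1 hsW
  have a1 := hy.mul hm
  rw [inv_mul_cancel_right] at a1
  have a2 : ∀ j, π (j + 1) = π j + m := fun j => ((hm.mul hs1).uniq a1 j).1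
  have a3 : ∀ j, π j = m * j + π 0 := fun j => by
    obtain ⟨n, rfl⟩ := ZMod.natCast_zmod_surjective j
    induction n with
    | zero => simp
    | succ n ih => rw [Nat.cast_succ, a2, ih]; ring
  have a4 : ∀ n : ℕ, π^[n] 1 - π^[n] 0 = m ^ n := fun n => by
    induction n with
    | zero => simp
    | succ n ih => rw [Function.iterate_succ_apply', Function.iterate_succ_apply', a3, a3 (π^[n] 0), pow_succ, ← ih]; ring
  obtain ⟨k, hk⟩ := isPGroup_iff_mem.1 hQ g hgQ
  obtain ⟨e, he⟩ := hm.pow (p ^ k)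
  rw [hk] at he
  have a5 := a4 (p ^ k)
  rw [(he.uniq Mon.one 1).1, (he.uniq Mon.one 0).1, ZMod.pow_card_pow] at a5
  simp only [id, sub_zero] at a5
  subst a5
  obtain ⟨s', hsW', hs'⟩ := hs (-π 0)
  have b1 := hs'.mul hm
  have b2 : (fun x => x + -π 0) ∘ π = id := funext fun j => by simp [a3 j]
  rw [b2] at b1
  obtain ⟨l, hl⟩ := isPGroup_iff_mem.1 hQ _ (mul_mem (h1 hsW') hgQ)
  have b3 := b1.diag_pow (p ^ l)
  rw [hl] at b3
  have : s' * g ∈ W F p := ⟨0, _, fun j => h2 _ l (b3.uniq Mon.one j).2, Mon.zero.2 b1⟩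
  simpa using mul_mem (inv_mem hsW') this

theorem exists_other (hp : p ≠ 2) (hpF : (p : F) ≠ 0) (h3 : ∀ b : F, ∃ a, a ≠ 0 ∧ a ≠ b) {x : Γ} (hx : x ∈ W F p) :
    ∃ c : Γ, c⁻¹ * x * c ∈ W F p ∧ ∃ i i' j, i ≠ i' ∧ c.1 i j ≠ 0 ∧ c.1 i' j ≠ 0 := by
  have comm : ∀ c : Γ, x.1 * c.1 = c.1 * x.1 → c⁻¹ * x * c ∈ W F p := fun c h => by
    rw [mul_assoc, show x * c = c * x from Units.ext h, inv_mul_cancel_left]; exact hx
  obtain ⟨k, d, h1, h2⟩ := hx
  by_cases hk : k = 0
  · subst hk
    by_cases hd : Function.Injective d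
    · let A : Matrix (ZMod p) (ZMod p) F := Matrix.of fun i j => d i ^ j.val
      have hA : A.det ≠ 0 := by
        clear comm h1 h2
        cases p with
        | zero => exact absurd Fact.out Nat.not_prime_zero
        | succ n => exact (det_vandermonde_ne_zero_iff (n := n + 1) (v := d)).2 hd
      obtain ⟨s, hs⟩ : ∃ s : Γ, Mon s (· + 1) (fun _ => (1 : F)) :=
        exists_mon (F := F) (Equiv.addRight (1 : ZMod p)) (d := fun _ => 1) (fun _ => one_ne_zero)
      refine ⟨GeneralLinearGroup.mkOfDetNeZero A hA, ?_, 0, 1, 0, zero_ne_one, by simp [A], by simp [A]⟩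
      have : x * GeneralLinearGroup.mkOfDetNeZero A hA = GeneralLinearGroup.mkOfDetNeZero A hA * s := Units.ext (by
        ext i j
        show (x.1 * A) i j = (A * s.1) i j
        simp only [mul_apply, h2.apply, hs.apply, A, of_apply, add_zero]
        simp only [ite_mul, zero_mul, Finset.sum_ite_eq, Finset.mem_univ, if_true, mul_ite, mul_zero, mul_one,
          Finset.sum_ite_eq', Equiv.coe_addRight]
        rw [ZMod.val_add, ZMod.val_one, ← pow_eq_pow_mod _ (h1 i), pow_succ'])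
      rw [mul_assoc, this, inv_mul_cancel_left]
      exact ⟨1, _, by simp, hs⟩
    · obtain ⟨i, j, e, hij⟩ := Function.not_injective_iff.1 hd
      refine ⟨GeneralLinearGroup.mkOfDetNeZero (transvection i j 1) (by rw [det_transvection_of_ne _ _ hij]; simp),
        comm _ ?_, i, j, j, hij, by simp [transvection, hij], by simp [transvection, hij]⟩
      show x.1 * transvection i j (1 : F) = transvection i j (1 : F) * x.1
      have : x.1 = diagonal d := by ext a b; rw [h2.apply, diagonal_apply]; split_ifs <;> simp_all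
      rw [this, transvection, mul_add, add_mul, mul_one, one_mul]
      ext a b
      simp only [Matrix.add_apply, diagonal_mul, mul_diagonal, single_apply]
      split_ifs with h
      · rw [← h.1, ← h.2, e, mul_comm]
      · simp
  · by_cases hd : ((1 : Matrix (ZMod p) (ZMod p) F) - x).det = 0
    · obtain ⟨v, hv, e⟩ := exists_mulVec_eq_zero_iff.2 hd
      rw [sub_mulVec, one_mulVec, sub_eq_zero] at e
      have v1 : ∀ j, v (j + k) = d j * v j := fun j => by
        conv_lhs => rw [e]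
        simp [mulVec, dotProduct, h2.apply]
      have v2 : ∀ j, v j ≠ 0 := fun j h => hv (by
        have : ∀ n : ℕ, v (j + n * k) = 0 := fun n => by
          induction n with
          | zero => simpa
          | succ n ih => rw [Nat.cast_succ, add_mul, one_mul, ← add_assoc, v1, ih, mul_zero]
        ext i
        obtain ⟨n, hn⟩ := ZMod.natCast_zmod_surjective ((i - j) / k)
        have := this n
        rwa [hn, div_mul_cancel₀ _ hk, add_sub_cancel] at this)
      obtain ⟨a, ha, ha'⟩ := h3 (-(p : F)⁻¹)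
      have hφ : (fun i => a * (v i)⁻¹) ᵥ* x.1 = fun i => a * (v i)⁻¹ := by
        ext j
        have := h2.ne j
        have := v2 j
        simp [vecMul, dotProduct, h2.apply, v1]
        field_simp
      have hA : (1 + vecMulVec v (fun i => a * (v i)⁻¹)).det ≠ 0 := by
        rw [vecMulVec_eq Unit, det_one_add_replicateCol_mul_replicateRow]
        simp only [dotProduct, mul_assoc, inv_mul_cancel₀ (v2 _), mul_one, Finset.sum_const, Finset.card_univ, ZMod.card,
          nsmul_eq_mul]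
        intro h; apply ha'; field_simp; linear_combination h
      obtain ⟨b, hb, hb'⟩ := exists_third hp 0 1
      refine ⟨GeneralLinearGroup.mkOfDetNeZero _ hA, comm _ ?_, 1, b, 0, hb'.symm, by simp [vecMulVec_apply, v2, ha],
        by simp [vecMulVec_apply, v2, ha, hb]⟩
      show x.1 * (1 + vecMulVec v _) = (1 + vecMulVec v _) * x.1
      rw [mul_add, add_mul, mul_one, one_mul, mul_vecMulVec, vecMulVec_mul, hφ, ← e]
    · refine ⟨GeneralLinearGroup.mkOfDetNeZero _ hd, comm _ ?_, 0, k, 0, Ne.symm hk, ?_, ?_⟩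
      · show x.1 * (1 - x.1) = (1 - x.1) * x.1
        noncomm_ring
      · simp [h2.apply, Ne.symm hk]
      · simp [h2.apply, hk, h2.ne]

theorem main {F : Type*} [Field F] [Fintype F] (hp : p ≠ 2) (h1 : p ∣ Fintype.card F - 1)
    (h2 : ¬ p ^ 2 ∣ Fintype.card F - 1) :
    ∃ Q : Sylow p (GL (ZMod p) F), ∀ x : GL (ZMod p) F,
      (∃ k : ℕ, orderOf x = p ^ k) → ∃ P : Sylow p (GL (ZMod p) F), P ≠ Q ∧ x ∈ P := by
  classical
  have pp : p.Prime := Fact.out
  obtain ⟨ζ, hζ⟩ := exists_prime_orderOf_dvd_card (G := Fˣ) p (by rwa [Fintype.card_units])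
  have hz : (ζ : F) ^ p = 1 := by
    have := pow_orderOf_eq_one ζ
    rw [hζ] at this
    rw [← Units.val_pow_eq_pow_val, this, Units.val_one]
  have hz1 : (ζ : F) ≠ 1 := fun h => by
    rw [Units.val_eq_one.1 h, orderOf_one] at hζ; exact pp.one_lt.ne hζ
  have hq : 1 < Fintype.card F := Fintype.one_lt_card
  have hS := isSyl_W hp hz hz1 fun a k h => by
    have ha : a ≠ 0 := by rintro rfl; rw [zero_pow (pow_pos pp.pos k).ne'] at h; exact zero_ne_one h
    obtain ⟨t, -, ht⟩ := (Nat.dvd_prime_pow pp).1 (orderOf_dvd_of_pow_eq_one h)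
    have h3 := orderOf_dvd_of_pow_eq_one (FiniteField.pow_card_sub_one_eq_one a ha)
    rw [ht] at h3
    have : t ≤ 1 := by
      by_contra h4
      exact h2 ((pow_dvd_pow p (by omega)).trans h3)
    exact orderOf_dvd_iff_pow_eq_one.1 (ht ▸ (pow_dvd_pow p this).trans (pow_one p).dvd)
  obtain ⟨Q, hQ⟩ := hS.exists_sylow_top
  refine ⟨Q, fun x ⟨k, hk⟩ => ?_⟩
  by_cases hx : x ∈ W F p
  · obtain ⟨c, hc, i, i', j, hi, a1, a2⟩ := exists_other hp (fun h => by
      have h3 := (CharP.cast_eq_zero_iff F (ringChar F) p).1 h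
      have h4 : ringChar F = p := ((Nat.dvd_prime pp).1 h3).resolve_left CharP.ringChar_ne_one
      obtain ⟨n, -, hn⟩ := FiniteField.card F (ringChar F)
      have h5 : p ∣ Fintype.card F := by rw [hn, h4]; exact dvd_pow_self p n.ne_zero
      exact pp.one_lt.ne' (Nat.dvd_one.1 ((Nat.dvd_sub_iff_right hq.le h5).1 h1))) (fun b => by
      have := Nat.le_of_dvd (by omega) h1
      have := pp.two_le
      obtain ⟨c, hc⟩ := Finset.exists_mem_notMem_of_card_lt_card (s := {0, b}) (t := Finset.univ)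
        (lt_of_le_of_lt Finset.card_le_two (by rw [Finset.card_univ]; omega))
      exact ⟨c, by simpa using hc.2⟩) hx
    refine ⟨c • Q, fun h => ?_, ?_⟩
    · rw [Sylow.smul_eq_iff_mem_normalizer, ← Sylow.coe_coe, hQ] at h
      obtain ⟨i₀, h0⟩ := mon_of_norm hp hz hz1 h j
      by_cases e : i = i₀
      · exact a2 (h0 i' (e ▸ hi.symm))
      · exact a1 (h0 i e)
    · show x ∈ ((c • Q : Sylow p _) : Subgroup _)
      rw [Sylow.coe_subgroup_smul, smul_eq_cj, hQ]
      exact mem_cj.2 hc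
  · obtain ⟨P, hP⟩ := (IsPGroup.of_card (G := zpowers x) (n := k) (by rw [Nat.card_zpowers, hk])).exists_le_sylow
    refine ⟨P, fun h => hx ?_, hP (mem_zpowers x)⟩
    rw [← hQ, ← h]; exact hP (mem_zpowers x)

end H04.Red
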