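import Cfsg.Agent.H04.S6b
import Cfsg.Agent.H04.ElemAb
import Cfsg.Agent.H03.A8Sub
import Cfsg.Agent.S3669
import Cfsg.Agent.S0205

/-! Nonsolvable subgroups of `A₈` with a nontrivial normal subgroup of odd order. -/

set_option autoImplicit false
open Cfsg Subgroup Equiv

local notation "#" => Nat.card

namespace H04.S6

theorem nine {H : Subgroup (Perm (Fin 8))} (h : ∀ g ∈ H, g ≠ 1 → g.IsThreeCycle) : # H ≠ 9 := fun c => by
  have : Fact (Nat.Prime 3) := ⟨Nat.prime_three⟩
  obtain ⟨g, g3, g1, g6⟩ : ∃ g : Perm (Fin 8), g ^ 3 = 1 ∧ g ≠ 1 ∧ g.support.card = 6 :=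
    ⟨swap 0 1 * swap 1 2 * swap 3 4 * swap 4 5, by decide +kernel⟩
  obtain ⟨Q, hQ⟩ := (IsPGroup.of_card (n := 1) (G := zpowers g) (p := 3)
    (by rw [Nat.card_zpowers, orderOf_eq_prime g3 g1]; rfl)).exists_le_sylow
  let P : Sylow 3 (Perm (Fin 8)) := Sylow.ofCard H (by
    rw [c, Nat.card_perm, Nat.card_eq_fintype_card, Fintype.card_fin, show (8 : ℕ).factorial = 3 ^ 2 * 4480 by decide,
      Nat.factorization_mul (by norm_num) (by norm_num), Nat.prime_three.factorization_pow]
    simp [Nat.factorization_eq_zero_of_not_dvd (show ¬ 3 ∣ 4480 by norm_num)])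
  obtain ⟨x, hx⟩ := MulAction.exists_smul_eq (Perm (Fin 8)) Q P
  have h1 : x * g * x⁻¹ ∈ H := by
    change _ ∈ (P : Subgroup (Perm (Fin 8)))
    rw [← hx]
    exact ⟨g, hQ (mem_zpowers g), rfl⟩
  have := (h _ h1 (by simpa using g1)).card_support
  rw [Perm.support_conj, Finset.card_map] at this
  omega

theorem cent {m : Perm (Fin 8)} (hp : (orderOf m).Prime) (h2 : orderOf m ≠ 2) (h : ¬ m.IsThreeCycle) :
    # (centralizer {m}) < 60 := by
  obtain ⟨n, e⟩ := Perm.cycleType_prime_order hp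
  have s := m.sum_cycleType_le
  unfold Perm.IsThreeCycle at h
  rw [Perm.nat_card_centralizer]
  rw [e] at h s ⊢
  have := hp.two_le
  generalize orderOf m = p at *
  simp only [Multiset.sum_replicate, Multiset.prod_replicate, Multiset.toFinset_replicate, smul_eq_mul, Fintype.card_fin,
    Nat.succ_ne_zero, if_false, Finset.prod_singleton, Multiset.count_replicate_self] at s ⊢
  have : p ≤ 8 := by nlinarith
  have : n ≤ 3 := by nlinarith
  interval_cases p <;> interval_cases n <;> first | omega | decide | exact absurd hp (by decide) | exact absurd rfl h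

theorem odd {Y : Type*} [Group Y] [Finite Y] (φ : Y →* alternatingGroup (Fin 8)) (hφ : Function.Injective φ)
    (hns : ¬ Group.IsSolvable Y) (hO : pPrimeCore 2 Y ≠ ⊥) : # (pCore 3 Y) = 3 ∧
      (Nonempty (Y ⧸ pCore 3 Y ≃* alternatingGroup (Fin 5)) ∨ Nonempty (Y ⧸ pCore 3 Y ≃* Perm (Fin 5))) := by
  have : Fact (Nat.Prime 3) := ⟨Nat.prime_three⟩
  obtain ⟨ψ, hψ⟩ : ∃ ψ, ψ = (alternatingGroup (Fin 8)).subtype.comp φ := ⟨_, rfl⟩
  have inj : Function.Injective ψ := hψ ▸ (subtype_injective _).comp hφ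
  have sg : ∀ y, Perm.sign (ψ y) = 1 := fun y => hψ ▸ Perm.mem_alternatingGroup.1 (φ y).2
  have od := (Nat.coprime_two_right).1 (H02.pPrimeCore_coprime 2 Y)
  have := Cfsg.Agent.S0205.result od
  obtain ⟨M, _, M1, le, -, hc, p, hp, he⟩ := H02.exists_normal_elementary_le _ hO
  have := Fact.mk hp
  have dv : ∀ K : Subgroup Y, # K ∣ 20160 := fun K => (card_subgroup_dvd_card K).trans (H03.A8.dvd hφ)
  obtain ⟨n, hn⟩ := IsPGroup.iff_card.1 (H02.isPGroup_of_pow_eq_one he)
  have n0 : n ≠ 0 := fun e => M1 (card_eq_one.1 (by rw [hn, e, pow_zero]))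
  have p2 : p ≠ 2 := fun e => by
    have := od.of_dvd_nat (card_dvd_of_le le)
    rw [hn, e, Nat.odd_pow_iff n0] at this
    exact absurd this (by decide)
  have sA : Group.IsSolvable (MulAut M) := by
    obtain ⟨-, e, -⟩ := exists_mulAut_equiv_GL hc (fun x => Subtype.ext (he x x.2)) hn
    refine Cfsg.Agent.S3669.solv_lt _ _ rfl ?_
    have d := dv M
    rw [Nat.card_congr e.toEquiv, Matrix.card_GL_field, ZMod.card]
    rw [hn] at d
    have d1 : p ∣ 2 ^ 6 * 3 ^ 2 * 5 * 7 := (dvd_pow_self p n0).trans d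
    have d2 : p ≤ 7 := by
      simp only [hp.dvd_mul] at d1
      rcases d1 with ((d1 | d1) | d1) | d1
      exacts [(Nat.le_of_dvd two_pos (hp.dvd_of_dvd_pow d1)).trans (by decide), (Nat.le_of_dvd three_pos (hp.dvd_of_dvd_pow d1)).trans (by decide),
        (Nat.le_of_dvd (by decide) d1).trans (by decide), Nat.le_of_dvd (by decide) d1]
    have d3 : n ≤ 2 := by
      by_contra h
      have := (pow_dvd_pow p (show 3 ≤ n by omega)).trans d
      have := hp.two_le
      interval_cases p <;> first | omega | exact absurd hp (by decide)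
    have := hp.two_le
    clear e hn he
    interval_cases p <;> interval_cases n <;> first | omega | decide | exact absurd hp (by decide)
  have h3 : ∀ m ∈ M, m ≠ 1 → (ψ m).IsThreeCycle := fun m hm m1 => by_contra fun h => hns <| by
    have o : orderOf (ψ m) = p := by rw [orderOf_injective ψ inj, orderOf_eq_prime (he m hm) m1]
    have := Cfsg.Agent.S3669.solv_lt _ _ rfl (cent (o ▸ hp) (o ▸ p2) h)
    have : Group.IsSolvable ((centralizer {ψ m}).comap ψ) := Group.isSolvable_of_isSolvable_injective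
      (f := ψ.subgroupComap _) fun a b e => Subtype.ext (inj (congrArg Subtype.val e))
    refine Group.isSolvable_of_ker_le_range ((centralizer {ψ m}).comap ψ).subtype (MulAut.conjNormal (H := M)) fun y hy => ?_
    have := congrArg Subtype.val (DFunLike.congr_fun hy ⟨m, hm⟩)
    rw [range_subtype, mem_comap, mem_centralizer_singleton_iff, ← map_mul, ← map_mul]
    exact congrArg ψ (mul_inv_eq_iff_eq_mul.1 this)
  have c3 : ∀ K : Subgroup Y, K ≠ ⊥ → (∀ m ∈ K, m ≠ 1 → (ψ m).IsThreeCycle) → IsPGroup 3 K ∧ # K = 3 := fun K K1 h => by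
    have pg : IsPGroup 3 K := H02.isPGroup_of_pow_eq_one fun x hx => by
      by_cases e : x = 1
      · rw [e, one_pow]
      · rw [← (h x hx e).orderOf, orderOf_injective ψ inj, pow_orderOf_eq_one]
    obtain ⟨k, hk⟩ := IsPGroup.iff_card.1 pg
    have a1 := nine (H := K.map ψ) (by rintro _ ⟨x, hx, rfl⟩ e; exact h x hx fun e' => e (by rw [e', map_one]))
    have a2 := dv K
    have a3 := mt card_eq_one.1 K1
    rw [card_map_of_injective inj] at a1
    rw [hk] at a1 a2 a3 ⊢
    have : k ≤ 2 := by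
      by_contra h
      have := (pow_dvd_pow 3 (show 3 ≤ k by omega)).trans a2
      omega
    refine ⟨pg, ?_⟩
    interval_cases k <;> simp_all
  obtain ⟨⟨m, hm⟩, m1⟩ := ne_bot_iff_exists_ne_one.1 M1
  have m1 : m ≠ 1 := fun e => m1 (Subtype.ext e)
  have sM : ∀ x ∈ M, (ψ x).support ⊆ (ψ m).support := fun x hx => by
    rw [← eq_of_le_of_card_ge (zpowers_le.2 hm) (by
      rw [(c3 M M1 h3).2, Nat.card_zpowers, ← orderOf_injective ψ inj, (h3 m hm m1).orderOf])] at hx
    obtain ⟨k, rfl⟩ := hx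
    rw [map_zpow]
    exact Perm.support_zpow_le _ k
  have iv : ∀ y x, x ∈ (ψ m).support → ψ y x ∈ (ψ m).support := fun y x hx => sM _ (‹M.Normal›.conj_mem m hm y) (by
    rw [map_mul, map_mul, map_inv, Perm.support_conj]; exact Finset.mem_map_of_mem _ hx)
  let χ : Y →* Perm {x // x ∉ (ψ m).support} := MonoidHom.mk' (fun y => (ψ y).subtypePerm fun x =>
    not_congr ⟨fun h => by simpa using iv y⁻¹ _ h, iv y x⟩) fun a b => Equiv.ext fun x => Subtype.ext (DFunLike.congr_fun (map_mul ψ a b) x.1)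
  let e : {x // x ∉ (ψ m).support} ≃ Fin 5 := Fintype.equivFinOfCardEq (by
    rw [Fintype.card_subtype_compl, Fintype.card_coe, (h3 m hm m1).card_support]; rfl)
  obtain ⟨ω, hω⟩ : ∃ ω, ω = e.permCongrHom.toMonoidHom.comp χ := ⟨_, rfl⟩
  have kr : ∀ y, y ∈ ω.ker ↔ (ψ y).support ⊆ (ψ m).support := fun y => by
    rw [hω, MonoidHom.mem_ker, MonoidHom.comp_apply, MulEquiv.coe_toMonoidHom, MulEquiv.map_eq_one_iff]
    exact ⟨fun h x hx => by_contra fun h' => Perm.mem_support.1 hx (congrArg Subtype.val (DFunLike.congr_fun h ⟨x, h'⟩) :),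
      fun h => Equiv.ext fun x => Subtype.ext (Perm.notMem_support.1 (mt (@h _) x.2))⟩
  obtain ⟨k1, k2⟩ := c3 ω.ker (fun h => m1 (mem_bot.1 (h.le ((kr m).2 subset_rfl)))) fun y hy y1 => by
    have a1 := Finset.card_le_card ((kr y).1 hy)
    have a2 := Perm.one_lt_card_support_of_ne_one ((map_ne_one_iff ψ inj).2 y1)
    have a3 : (ψ y).support.card ≠ 2 := fun h => by simpa [sg y] using (Perm.card_support_eq_two.1 h).sign_eq
    rw [(h3 m hm m1).card_support] at a1
    exact card_support_eq_three_iff.1 (by omega)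
  have q : Nonempty (Y ⧸ ω.ker ≃* alternatingGroup (Fin 5)) ∨ Nonempty (Y ⧸ ω.ker ≃* Perm (Fin 5)) :=
    H03.A8.sym_of_inj (by decide) _ (QuotientGroup.kerLift_injective ω) (by
      by_contra h
      have := Cfsg.Agent.S3669.solv_lt _ (Y ⧸ ω.ker) rfl (by simp only [Nat.factorial] at h; omega)
      have := k1.isNilpotent
      exact hns (H02.isSolvable_of_normal_of_quotient ω.ker))
  have E : pCore 3 Y = ω.ker := by
    refine le_antisymm ?_ (H02.le_pCore k1)
    suffices pCore 3 (Y ⧸ ω.ker) = ⊥ by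
      rwa [H02.pCore_quotient_eq_map _ k1, Subgroup.map_eq_bot_iff, QuotientGroup.ker_mk'] at this
    have w : ∀ {W : Type} [Group W] (e : Y ⧸ ω.ker ≃* W), (∀ R : Subgroup W, R.Normal → R ≠ ⊥ → 2 ∣ # R) → pCore 3 (Y ⧸ ω.ker) = ⊥ :=
      fun e h => by_contra fun h1 => by
        obtain ⟨k, hk⟩ := IsPGroup.iff_card.1 (H02.pCore_isPGroup 3 (Y ⧸ ω.ker))
        have := h _ (Normal.map inferInstance e.toMonoidHom e.surjective) (mt (map_eq_bot_iff_of_injective _ e.injective).1 h1)
        rw [card_map_of_injective e.injective, hk] at this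
        exact absurd (Nat.prime_two.dvd_of_dvd_pow this) (by decide)
    have cA : 2 ∣ # (alternatingGroup (Fin 5)) := by rw [nat_card_alternatingGroup]; simp [Nat.factorial]
    rcases q with ⟨⟨e⟩⟩ | ⟨⟨e⟩⟩
    · exact w e fun R hR h => by rwa [hR.eq_bot_or_eq_top.resolve_left h, card_top]
    · exact w e fun R hR h => cA.trans (card_dvd_of_le (Perm.alternatingGroup_le_of_normal (by simp) ((nontrivial_iff_ne_bot R).2 h)))
  exact ⟨E ▸ k2, q.imp (fun ⟨e⟩ => ⟨(QuotientGroup.quotientMulEquivOfEq E).trans e⟩)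
    fun ⟨e⟩ => ⟨(QuotientGroup.quotientMulEquivOfEq E).trans e⟩⟩

theorem s6a8 : ∃ j : Perm (Fin 6) →* alternatingGroup (Fin 8), Function.Injective j := by
  let ι := Perm.viaEmbeddingHom (Fin.castLEEmb (show 6 ≤ 8 by decide))
  have f : ∀ (g : Perm (Fin 6)) (x : Fin 8), 6 ≤ x.1 → ι g x = x := fun g x hx =>
    Perm.viaEmbedding_apply_of_notMem _ _ _ (by rintro ⟨y, rfl⟩; exact absurd y.2 (not_lt.2 hx))
  have c : ∀ g, ι g * swap 6 7 = swap 6 7 * ι g := fun g => by
    rw [mul_swap_eq_swap_mul, f g 6 (by decide), f g 7 (by decide)]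
  have s : ∀ g, Perm.sign (ι g) = Perm.sign g := fun g => by
    classical exact @Perm.sign_extendDomain _ _ _ _ _ _ g _ (fun _ => Classical.propDecidable _) _
  refine ⟨MonoidHom.mk' (fun g => ⟨ι g * if Perm.sign g = 1 then 1 else swap 6 7, Perm.mem_alternatingGroup.2 ?_⟩) fun a b =>
    Subtype.ext ?_, (injective_iff_map_eq_one _).2 fun g hg => ?_⟩
  · rcases Int.units_eq_one_or (Perm.sign g) with e | e <;> simp [s, e]
  · rcases Int.units_eq_one_or (Perm.sign a) with e | e <;> rcases Int.units_eq_one_or (Perm.sign b) with e' | e' <;>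
      simp [e, e', mul_assoc, ← c]
    rw [← mul_assoc, ← c, mul_assoc, swap_mul_self, mul_one]
  · have h : ι g * (if Perm.sign g = 1 then 1 else swap 6 7) = 1 := congrArg Subtype.val hg
    split_ifs at h
    · exact (map_eq_one_iff _ (Perm.viaEmbeddingHom_injective _)).1 ((mul_one _).symm.trans h)
    · have := DFunLike.congr_fun h 7
      rw [Perm.mul_apply, swap_apply_right, f g 6 (by decide)] at this
      exact absurd this (by decide)

theorem glpsl : Nonempty (GL (Fin 3) (ZMod 2) ≃* Matrix.ProjectiveSpecialLinearGroup (Fin 3) (ZMod 2)) := by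
  have h1 : center (Matrix.SpecialLinearGroup (Fin 3) (ZMod 2)) = ⊥ := card_eq_one.1 (by rw [H09.card_center_SL]; simp)
  have h2 : (Matrix.GeneralLinearGroup.det : GL (Fin 3) (ZMod 2) →* _).ker = ⊤ := eq_top_iff.2 fun g _ => Subsingleton.elim _ _
  exact ⟨((topEquiv.symm.trans (MulEquiv.subgroupCongr h2.symm)).trans H09.slEquivKerDet.symm).trans
    ((QuotientGroup.quotientMulEquivOfEq h1).trans QuotientGroup.quotientBot).symm⟩

end H04.S6
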