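import Cfsg.Agent.H04.Sh2
import Cfsg.Agent.S3937
import Cfsg.Agent.S3757
import Cfsg.Agent.H02.Fitting

/-! Shumyatsky's theorems on fixed points of an elementary abelian group of coprime automorphisms. -/

set_option autoImplicit false
open Subgroup Cfsg
open scoped commutatorElement IsMulCommutative

namespace H04.Sh

variable {G A : Type} [Group G] [CommGroup A] {ρ : A →* MulAut G} {p : ℕ}

theorem dg_succ (n : ℕ) (X : Subgroup G) : dg (n + 1) X = ⁅dg n X, dg n X⁆ := Function.iterate_succ_apply' _ _ _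

theorem map_der (X : Subgroup G) (n : ℕ) : (derivedSeries X n).map X.subtype = dg n X := by
  induction n with
  | zero => exact (MonoidHom.range_eq_map _).symm.trans X.range_subtype
  | succ n ih => rw [derivedSeries_succ, map_commutator, ih, dg_succ]

theorem dg_top (n : ℕ) : dg n ⊤ = derivedSeries G n := by
  induction n with
  | zero => rfl
  | succ n ih => rw [derivedSeries_succ, dg_succ, ih]

theorem dg_le (X : Subgroup G) (n : ℕ) : dg n X ≤ X.lowerCentralSeries n := by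
  induction n with
  | zero => exact le_rfl
  | succ n ih => rw [dg_succ]; exact commutator_mono ih (ih.trans (X.lowerCentralSeries_antitone (Nat.zero_le n)))

theorem engel_step (D : Subgroup G) [D.Normal] (h : G) (m : ℕ)
    (gen : ∀ Y : Subgroup G, (∀ x ∈ D, (⁅·, h⁆)^[m] x = 1 → x ∈ Y) → D ≤ Y) : ∀ x ∈ D, (⁅·, h⁆)^[m] x ∈ ⁅D, D⁆ := by
  let ε : Monoid.End (Abelianization D) := MonoidHom.id _ / Abelianization.map (MulAut.conjNormal h).toMonoidHom
  have key : ∀ n, ∀ x : D, ∃ y : D, y = (⁅·, h⁆)^[n] x.1 ∧ Abelianization.of y = (ε ^ n) (Abelianization.of x) := fun n => by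
    induction n with
    | zero => exact fun x => ⟨x, rfl, rfl⟩
    | succ n ih =>
      intro x
      obtain ⟨y, h1, h2⟩ := ih (x / MulAut.conjNormal h x)
      refine ⟨y, h1.trans (congrArg _ ?_), by rw [h2, pow_succ, map_div]; rfl⟩
      simp [commutatorElement_def, div_eq_mul_inv, mul_assoc]
  intro x hx'
  obtain ⟨x, hx, rfl⟩ := gen ((MonoidHom.comp (ε ^ m) Abelianization.of).ker.map D.subtype) (fun x hx e => by
    obtain ⟨y, h1, h2⟩ := key m ⟨x, hx⟩
    exact ⟨⟨x, hx⟩, h2.symm.trans (by rw [show y = 1 from Subtype.ext (h1.trans e), map_one]), rfl⟩) hx'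
  obtain ⟨y, h1, h2⟩ := key m x
  rw [← D.map_subtype_commutator]
  exact ⟨y, Abelianization.ker_of D ▸ h2.trans hx, h1⟩

section
variable [Finite G] [Finite A] [hp : Fact p.Prime] (hA : ∀ a : A, a ^ p = 1) (hc : (Nat.card G).Coprime p)
include hA hc

theorem le_fit [hs : Group.IsSolvable G] {X : Subgroup G} {m : ℕ} (h : ∀ φ : Ch A p, it (Fx ρ φ.ker) X m = ⊥) :
    X ≤ fittingSubgroup G := fun g hg => (Cfsg.Agent.S3937.result g).2 fun x => by
  have a1 : ∀ n, ∀ {Y : Subgroup G}, ∀ y ∈ Y, (⁅·, g⁆)^[n] y ∈ it Y X n := fun n => by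
    induction n with
    | zero => exact fun _ h => h
    | succ n ih => exact fun y hy => ih _ (commutator_mem_commutator hy hg)
  have a2 : ∀ j, (⁅·, g⁆)^[j * m] x ∈ derivedSeries G j := fun j => by
    induction j with
    | zero => trivial
    | succ j ih =>
      rw [add_mul, one_mul, add_comm _ m, Function.iterate_add_apply]
      exact engel_step _ g m (fun Y hY => cp1 hA hc (iv_iff.2 fun a => map_derivedSeries_le_derivedSeries _ j) fun φ y hy =>
        hY y hy.1 ((h φ).le (a1 m y hy.2))) _ ih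
  obtain ⟨j, hj⟩ := hs
  refine ⟨j * m, Eq.trans ?_ (hj.le (a2 j))⟩
  clear a2
  generalize j * m = n
  induction n generalizing x with
  | zero => rfl
  | succ n ih => exact ih _

omit [Finite G] hA hc in
theorem ex_ker {k : ℕ} (hk : Nat.card A = p ^ k) (S : Finset (Ch A p)) (h : S.card < k) :
    ∃ a ≠ 1, ∀ φ ∈ S, φ a = 1 := by
  by_contra! H
  have := Nat.card_le_card_of_injective _ ((injective_iff_map_eq_one (MonoidHom.pi fun φ : S => φ.1)).2 fun a e => by
    by_contra h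
    obtain ⟨φ, h1, h2⟩ := H a h
    exact h2 (congrFun e ⟨φ, h1⟩))
  simp only [hk, Nat.card_fun, Nat.card_eq_fintype_card, Fintype.card_coe, Fintype.card_multiplicative, ZMod.card] at this
  exact absurd ((Nat.pow_le_pow_iff_right hp.out.one_lt).1 this) (by omega)

theorem solv {k : ℕ} (hk : Nat.card A = p ^ k) (h3 : 3 ≤ k) (hρ : Function.Injective ρ)
    (h : ∀ a ≠ 1, Group.IsSolvable (Fx ρ (zpowers a))) : Group.IsSolvable G := by
  have hi : Function.Injective (SemidirectProduct.inl : G →* H24.Hol G) := SemidirectProduct.inl_injective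
  have hr : Function.Injective (SemidirectProduct.inr : MulAut G →* H24.Hol G) := SemidirectProduct.inr_injective
  haveI := Cfsg.Agent.S3757.result (p := p) (ρ.range.map SemidirectProduct.inr) (map SemidirectProduct.inl ⊤)
    ⟨inferInstance, by rintro _ ⟨_, ⟨a, rfl⟩, rfl⟩; rw [← map_pow, ← map_pow, hA, map_one, map_one]⟩
    (by rw [card_map_of_injective hr, ← Nat.card_congr (MonoidHom.ofInjective hρ).toEquiv, hk]
        exact Nat.pow_le_pow_right hp.out.pos h3)
    (H17.hol_norm fun _ _ _ _ => trivial) (by rwa [card_map_of_injective hi, card_top]) (by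
      rintro _ ⟨_, ⟨a, rfl⟩, rfl⟩ ha
      haveI := h a (by rintro rfl; simp at ha)
      haveI := Group.isSolvable_of_surjective (f := (equivMapOfInjective (Fx ρ (zpowers a)) _ hi).toMonoidHom) (MulEquiv.surjective _)
      refine Group.isSolvable_of_isSolvable_injective (inclusion_injective (K := (Fx ρ (zpowers a)).map SemidirectProduct.inl) ?_)
      rintro _ ⟨⟨x, -, rfl⟩, hx⟩
      have : ρ a x = x := hi (by rw [← H17.hol_conj', ← mem_centralizer_singleton_iff.1 hx, mul_inv_cancel_right])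
      exact ⟨x, fun b hb => (zpowers_le.2 this : zpowers a ≤ (MulAction.stabilizer _ x).comap ρ) hb, rfl⟩)
  exact Group.isSolvable_of_isSolvable_injective (f := (topEquiv.symm.trans (equivMapOfInjective ⊤ _ hi)).toMonoidHom)
    (MulEquiv.injective _)

end

variable (ρ p) in
/-- a pair of families of special subgroups -/
structure Fam {ι κ : Type} (F : ι → Subgroup G) (H : κ → Subgroup G) : Prop where
  f : ∀ i, Iv ρ (F i)
  h : ∀ i, Iv ρ (H i)
  a : ∀ i j (φ : Ch A p), ∃ l, ⁅F i, H j⁆ ⊓ Fx ρ φ.ker ≤ F l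
  b : ∀ i, ∃ j, F i ≤ H j

variable (ρ p) in
/-- the next family -/
def nx {ι κ : Type} (F : ι → Subgroup G) (H : κ → Subgroup G) (t : ι × κ × Ch A p) : Subgroup G :=
  ⁅F t.1, H t.2.1⁆ ⊓ Fx ρ t.2.2.ker

variable {ι κ : Type} {F : ι → Subgroup G} {H : κ → Subgroup G}

theorem Fam.zero : Fam ρ p (fun φ : Ch A p => Fx ρ φ.ker) fun φ : Ch A p => Fx ρ φ.ker :=
  ⟨fun _ => .fx _, fun _ => .fx _, fun _ _ φ => ⟨φ, inf_le_right⟩, fun φ => ⟨φ, le_rfl⟩⟩

theorem Fam.ga (h : Fam ρ p F H) : Fam ρ p (nx ρ p F H) H :=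
  ⟨fun _ => ((h.f _).comm (h.h _)).inf (.fx _), h.h,
    fun i j φ => (h.a _ _ _).elim fun l e => ⟨(l, j, φ), inf_le_inf_right _ (commutator_mono e le_rfl)⟩,
    fun _ => (h.a _ _ _).elim fun l e => (h.b l).imp fun _ => e.trans⟩

theorem Fam.self (h : Fam ρ p F H) : Fam ρ p F F :=
  ⟨h.f, h.f, fun i j φ => (h.b j).elim fun l e => (h.a i l φ).imp fun _ =>
    (inf_le_inf_right _ (commutator_mono le_rfl e)).trans, fun i => ⟨i, le_rfl⟩⟩

theorem Fam.sup [Finite G] [Finite A] [Fact p.Prime] (hA : ∀ a : A, a ^ p = 1) (hc : (Nat.card G).Coprime p)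
    (h : Fam ρ p F H) : ⨆ t, nx ρ p F H t = ⁅⨆ i, F i, ⨆ j, H j⁆ := by
  refine le_antisymm (iSup_le fun t => inf_le_left.trans (commutator_mono (le_iSup _ _) (le_iSup _ _))) ?_
  set N := ⨆ t, nx ρ p F H t
  have a1 : ∀ i j, ⁅F i, H j⁆ ≤ N := fun i j => cp1 hA hc ((h.f i).comm (h.h j)) fun φ => le_iSup (nx ρ p F H) (i, j, φ)
  have a2 : ⨆ j, H j ≤ normalizer N := iSup_le fun j y hy => mem_normalizer_fintype (S := (N : Set G)) fun x hx =>
    (iSup_le fun t x hx => by
      obtain ⟨l, e⟩ := h.a t.1 t.2.1 t.2.2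
      simpa [commutatorElement_def, mul_assoc] using
        mul_mem (inv_mem (a1 l j (commutator_mem_commutator (e hx) hy))) (le_iSup (nx ρ p F H) t hx) :
      N ≤ N.comap (MulAut.conj y).toMonoidHom) hx
  have a3 : ⨆ i, F i ≤ ⨆ j, H j := iSup_le fun i => (h.b i).elim fun j e => le_iSup_of_le j e
  have cj : ∀ {g x}, g ∈ ⨆ j, H j → x ∈ N → g * x * g⁻¹ ∈ N := fun hg hx => (mem_normalizer_iff.1 (a2 hg) _).1 hx
  refine commutator_le.2 fun x hx y hy => ?_
  induction hx using iSup_induction' with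
  | h1 => simp
  | hmul a b ha _ e1 e2 =>
    rw [show ⁅a * b, y⁆ = a * ⁅b, y⁆ * a⁻¹ * ⁅a, y⁆ by group]; exact mul_mem (cj (a3 ha) e2) e1
  | hp i x hx =>
    induction hy using iSup_induction' with
    | h1 => simp
    | hp j y hy => exact a1 i j (commutator_mem_commutator hx hy)
    | hmul a b ha _ e1 e2 => rw [show ⁅x, a * b⁆ = ⁅x, a⁆ * (a * ⁅x, b⁆ * a⁻¹) by group]; exact mul_mem e1 (cj ha e2)

variable (ρ p) in
/-- members of the family lie in verbal subgroups of fixed point subgroups -/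
def Sm (n : ℕ) (W : Subgroup G → Subgroup G) (F : ι → Subgroup G) : Prop :=
  ∀ i, ∃ S : Finset (Ch A p), S.card ≤ n ∧ ∀ a, (∀ φ ∈ S, φ a = 1) → F i ≤ W (Fx ρ (zpowers a))

theorem Sm.zero : Sm ρ p 1 id fun φ : Ch A p => Fx ρ φ.ker :=
  fun φ => ⟨{φ}, le_rfl, fun a h _ hx b hb => hx b (zpowers_le.2 (h φ (by simp)) hb)⟩

theorem Sm.nx {n m : ℕ} {W W' : Subgroup G → Subgroup G} (h : Sm ρ p n W F) (h' : Sm ρ p m W' H) :
    Sm ρ p (n + m) (fun X => ⁅W X, W' X⁆) (nx ρ p F H) := fun t => by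
  classical
  obtain ⟨S, a1, a2⟩ := h t.1
  obtain ⟨T, b1, b2⟩ := h' t.2.1
  exact ⟨S ∪ T, (Finset.card_union_le _ _).trans (add_le_add a1 b1), fun a e => inf_le_left.trans
    (commutator_mono (a2 a fun φ h => e φ (by simp [h])) (b2 a fun φ h => e φ (by simp [h])))⟩

theorem ex_fam (p N e : ℕ) [Fact p.Prime] : ∃ t, ∀ (G A : Type) [Group G] [CommGroup A] [Finite G] [Finite A]
    (ρ : A →* MulAut G), (∀ a : A, a ^ p = 1) → (Nat.card G).Coprime p → Nat.card (Ch A p) ≤ N →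
    (∃ (ι : Type) (_ : Finite ι) (F : ι → Subgroup G), Nat.card ι ≤ t ∧ Fam ρ p F F ∧ ⨆ i, F i = dg e ⊤ ∧
      Sm ρ p (2 ^ e) (dg e) F) ∧ ∃ (ι : Type) (_ : Finite ι) (F : ι → Subgroup G), Nat.card ι ≤ t ∧
      Fam ρ p F (fun φ : Ch A p => Fx ρ φ.ker) ∧ ⨆ i, F i = Subgroup.lowerCentralSeries ⊤ e ∧
      Sm ρ p (e + 1) (Subgroup.lowerCentralSeries · e) F := by
  have top : ∀ (G A : Type) [Group G] [CommGroup A] [Finite G] [Finite A] (ρ : A →* MulAut G), (∀ a : A, a ^ p = 1) →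
      (Nat.card G).Coprime p → ⨆ φ : Ch A p, Fx ρ φ.ker = ⊤ := fun G A _ _ _ _ ρ hA hc =>
    eq_top_iff.2 (cp1 hA hc (fun _ _ _ => trivial) fun φ => le_iSup_of_le φ inf_le_right)
  induction e with
  | zero =>
    exact ⟨N, fun G A _ _ _ _ ρ hA hc hN => ⟨⟨_, DFunLike.finite _, _, hN, .zero, top G A ρ hA hc, .zero⟩,
      _, DFunLike.finite _, _, hN, .zero, top G A ρ hA hc, .zero⟩⟩
  | succ e ih =>
    obtain ⟨t, ht⟩ := ih
    refine ⟨(t + N) ^ 3, fun G A _ _ _ _ ρ hA hc hN => ?_⟩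
    obtain ⟨⟨ι, _, F, a1, a2, a3, a4⟩, κ, _, H, b1, b2, b3, b4⟩ := ht G A ρ hA hc hN
    haveI : Finite (Ch A p) := DFunLike.finite _
    refine ⟨⟨_, inferInstance, _, ?_, a2.ga.self, by rw [a2.sup hA hc, a3, dg_succ], ?_⟩, _, inferInstance, _, ?_, b2.ga,
      by rw [b2.sup hA hc, b3, top G A ρ hA hc]; rfl, b4.nx .zero⟩
    · rw [Nat.card_prod, Nat.card_prod, pow_three]; gcongr <;> omega
    · simpa only [pow_succ, mul_two, ← dg_succ] using a4.nx a4
    · rw [Nat.card_prod, Nat.card_prod, pow_three]; gcongr <;> omega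

theorem fin_main (p k c s t : ℕ) [hp : Fact p.Prime] (hk : 3 ≤ k) : ∃ B, ∀ (G A : Type) [Group G] [CommGroup A] [Finite G]
    [Finite A] (ρ : A →* MulAut G) (ι : Type) [Finite ι] (F : ι → Subgroup G) (W : Subgroup G → Subgroup G) (n : ℕ),
    Function.Injective ρ → (∀ a : A, a ^ p = 1) → (Nat.card G).Coprime p → Nat.card A = p ^ k → Nat.card ι ≤ t →
    Fam ρ p F F → n + 2 ≤ k → Sm ρ p n W F → (∀ X, ⁅X, W X⁆ ≤ W X ∧ dg s X ≤ W X) →
    (∀ a ≠ 1, (W (Fx ρ (zpowers a))).lowerCentralSeries c = ⊥) → (⨆ i, F i).lowerCentralSeries B = ⊥ := by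
  obtain ⟨f, hf⟩ := grp_main p (c + 1) (c + s) (t * p ^ p ^ k)
  refine ⟨f, fun G A _ _ _ _ ρ ι _ F W n hρ hA hc hA' ht h1 hn h2 hW h3 => ?_⟩
  classical
  have a1 : ∀ a ≠ 1, dg (c + s) (Fx ρ (zpowers a)) = ⊥ := fun a ha => eq_bot_iff.2 (by
    rw [dg, Function.iterate_add_apply, ← h3 a ha]
    exact (dg_le _ c).trans (lowerCentralSeries_mono c (hW _).2))
  haveI := solv hA hc hA' hk hρ fun a ha => ⟨c + s, map_subtype_inj.1 (by rw [map_der, a1 a ha, Subgroup.map_bot])⟩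
  have a2 : ∀ i (φ : Ch A p), it (Fx ρ φ.ker) (F i) (c + 1) = ⊥ := fun i φ => by
    obtain ⟨S, b1, b2⟩ := h2 i
    obtain ⟨a, ha, e⟩ := ex_ker hA' (insert φ S) ((Finset.card_insert_le _ _).trans_lt (by omega))
    have b3 := b2 a fun ψ h => e ψ (by simp [h])
    rw [eq_bot_iff, ← h3 a ha]
    clear hf h3 a1
    induction c with
    | zero => exact (commutator_mono (show Fx ρ φ.ker ≤ Fx ρ (zpowers a) from fun _ hx b hb => hx b (zpowers_le.2 (e φ (by simp)) hb))
        b3).trans (hW _).1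
    | succ c ih => rw [it, Function.iterate_succ_apply']; exact commutator_mono ih b3
  obtain ⟨a, ha, -⟩ := ex_ker hA' ∅ (by simp; omega)
  have a3 := hf G A ρ ι F a hA hc (Nat.mul_le_mul ht ((Nat.card_le_card_of_injective _ DFunLike.coe_injective).trans
    (by simp [Nat.card_fun, hA']))) h1.f h1.a a2 (a1 a ha)
  obtain ⟨j, hj⟩ := (isNilpotent_iff_lowerCentralSeries _).1 (Group.nilpotent_of_mulEquiv
    (subgroupOfEquivOfLe (iSup_le fun i => le_fit hA hc (a2 i) : ⨆ i, F i ≤ _)))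
  have a4 : ∀ j, (⨆ i, F i).lowerCentralSeries f ≤ (⨆ i, F i).lowerCentralSeries (f + j) := fun j => by
    induction j with
    | zero => exact le_rfl
    | succ j ih => exact a3.trans (commutator_mono ih le_rfl)
  exact eq_bot_iff.2 ((a4 j).trans (hj ▸ Subgroup.lowerCentralSeries_antitone _ (by omega)))

theorem fx_eq (A : Subgroup (MulAut G)) [IsMulCommutative A] (a : A) :
    Fx A.subtype (zpowers a) = a.1.toMonoidHom.eqLocus (MonoidHom.id G) := le_antisymm
  (fun x hx => hx a (mem_zpowers a)) fun x hx _ hb =>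
    (zpowers_le.2 hx : zpowers a ≤ (MulAction.stabilizer _ x).comap A.subtype) hb

theorem card_ch (k : ℕ) [hp : Fact p.Prime] (h : Nat.card A = p ^ k) : Nat.card (Ch A p) ≤ p ^ p ^ k := by
  haveI : Finite A := Nat.finite_of_card_ne_zero (h ▸ pow_ne_zero _ hp.out.ne_zero)
  exact (Nat.card_le_card_of_injective _ DFunLike.coe_injective).trans (by simp [Nat.card_fun, h])

end H04.Sh
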