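import Mathlib
import Cfsg.Agent.H28.Simple
import Cfsg.Agent.H09.AutBase

/-! An ambient form `Crit p E S` of the criterion for the simplicity of the fusion system of a group `E` on a Sylow
subgroup `S`; it passes to quotients by central `p'`-subgroups (`Crit.simple`, `Crit.simple_quot`). -/

set_option autoImplicit false
open Subgroup Cfsg H26 H09

namespace H04

variable {Γ : Type*} [Group Γ] {p : ℕ}

/-- `R` contains the `p`-elements of `E` centralising it -/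
def Ctr (p : ℕ) (E R : Subgroup Γ) : Prop := ∀ c ∈ E, (∀ r ∈ R, r * c = c * r) → PEl p c → c ∈ R

/-- the subgroup generated by the `p`-elements of `E` normalising `R` -/
def pN (p : ℕ) (E R : Subgroup Γ) : Subgroup Γ := closure {y | y ∈ E ∧ y ∈ normalizer (R : Set Γ) ∧ PEl p y}

theorem pN_le (E R : Subgroup Γ) : pN p E R ≤ E := (closure_le _).2 fun _ h => h.1

theorem pN_le_normalizer (E R : Subgroup Γ) : pN p E R ≤ normalizer (R : Set Γ) := (closure_le _).2 fun _ h => h.2.1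

theorem mem_pN {E R : Subgroup Γ} {y : Γ} (h1 : y ∈ E) (h2 : y ∈ normalizer (R : Set Γ)) (h3 : PEl p y) :
    y ∈ pN p E R := subset_closure ⟨h1, h2, h3⟩

/-- the automorphisms of `S` that lie in every normal subsystem over `S` -/
def nmT (p : ℕ) (E S : Subgroup Γ) : Subgroup Γ :=
  S ⊔ (E ⊓ centralizer (S : Set Γ)) ⊔
    closure {x | x ∈ normalizer (S : Set Γ) ∧ ∃ R ≤ S, Ctr p E R ∧ x ∈ pN p E R}

theorem mem_nmT {E S R : Subgroup Γ} {x : Γ} (h1 : x ∈ normalizer (S : Set Γ)) (h2 : R ≤ S) (h3 : Ctr p E R)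
    (h4 : x ∈ pN p E R) : x ∈ nmT p E S := mem_sup_right (subset_closure ⟨h1, R, h2, h3, h4⟩)

structure Crit (p : ℕ) (E S : Subgroup Γ) : Prop where
  syl : IsSyl p S E
  ne : S ≠ ⊥
  sc : ∀ T ≤ S, T ≠ ⊥ → (∀ x ∈ T, ∀ g ∈ E, g * x * g⁻¹ ∈ S → g * x * g⁻¹ ∈ T) → T = S
  nm : ∀ n ∈ E, n ∈ normalizer (S : Set Γ) → n ∈ nmT p E S

variable [Fact p.Prime]

theorem pEl_iff_orderOf {x : Γ} : PEl p x ↔ ∃ k, orderOf x = p ^ k :=
  ⟨fun ⟨_, h⟩ => ((Nat.dvd_prime_pow Fact.out).1 (orderOf_dvd_of_pow_eq_one h)).imp fun _ h => h.2,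
    fun ⟨k, h⟩ => ⟨k, h ▸ pow_orderOf_eq_one x⟩⟩

theorem exists_pEl_lift {D G : Type*} [Group D] [Finite D] [Group G] (π : D →* G) (hπ : Function.Surjective π)
    {c : G} (hc : PEl p c) : ∃ d, PEl p d ∧ π d = c := by
  haveI := Finite.of_surjective π hπ
  obtain ⟨k, hk⟩ := pEl_iff_orderOf.1 hc
  obtain ⟨T, hT⟩ := (IsPGroup.of_card (G := zpowers c) (n := k) (by rw [Nat.card_zpowers, hk])).exists_le_sylow
  obtain ⟨P, rfl⟩ := Sylow.mapSurjective_surjective hπ p T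
  obtain ⟨d, hd, e⟩ := hT (mem_zpowers c)
  exact ⟨d, PEl.of_mem P.isPGroup' hd, e⟩

theorem Crit.simple {D G : Type*} [Group D] [Finite D] [Group G] {ρ : D →* Γ} (hρ : Function.Injective ρ)
    {S : Subgroup Γ} (h : Crit p ρ.range S) (π : D →* G) (hπ : Function.Surjective π)
    (hz : ∀ z, π z = 1 → z ∈ center D ∧ (PEl p z → z = 1)) (S' : Sylow p G) :
    (groupFusionSystem (S' : Subgroup G)).IsSimple p := by
  haveI := Finite.of_surjective π hπ
  haveI : Finite ρ.range := Finite.of_surjective _ ρ.rangeRestrict_surjective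
  have pel : ∀ d, PEl p (ρ d) → PEl p d := fun d ⟨k, hk⟩ => ⟨k, hρ (by rw [map_pow, hk, map_one])⟩
  have uq : ∀ x y : D, PEl p x → PEl p y → π x = π y → x = y := fun x y hx hy e => by
    obtain ⟨h1, h2⟩ := hz (x⁻¹ * y) (by rw [map_mul, map_inv, e, inv_mul_cancel])
    refine inv_mul_eq_one.1 (h2 (hx.inv.mul hy ?_))
    have := mem_center_iff.1 h1 x
    rw [mul_inv_cancel_left] at this
    change x⁻¹ * y = y * x⁻¹
    rw [eq_mul_inv_iff_mul_eq, ← this]
  have pS : ∀ d, ρ d ∈ S → PEl p d := fun d hd => pel d (PEl.of_mem h.syl.pg hd)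
  have key : ∀ R ≤ S, ∀ d, PEl p d → (π d ∈ (R.comap ρ).map π ↔ ρ d ∈ R) := fun R hR d hd =>
    ⟨fun ⟨d', h1, h2⟩ => uq _ _ (pS _ (hR h1)) hd h2 ▸ h1, fun h1 => ⟨d, h1, rfl⟩⟩
  have nrm : ∀ R ≤ S, ∀ d, π d ∈ normalizer ((R.comap ρ).map π : Set G) ↔ ρ d ∈ normalizer (R : Set Γ) :=
    fun R hR d => by
    haveI : Finite R := Finite.of_injective (fun r : R => (⟨r, h.syl.le (hR r.2)⟩ : ρ.range))
      fun a b e => Subtype.ext (congrArg (fun x : ρ.range => (x : Γ)) e)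
    refine ⟨fun h1 => mem_normalizer_fintype fun x hx => ?_, fun h1 => mem_normalizer_fintype ?_⟩
    · obtain ⟨y, rfl⟩ := h.syl.le (hR hx)
      have := (mem_normalizer_iff.1 h1 (π y)).1 ⟨y, hx, rfl⟩
      rw [← map_inv, ← map_mul, ← map_mul] at this ⊢
      exact (key R hR _ ((pS y (hR hx)).conj d)).1 this
    · rintro _ ⟨y, hy, rfl⟩
      refine ⟨d * y * d⁻¹, ?_, by simp⟩
      have := (mem_normalizer_iff.1 h1 (ρ y)).1 hy
      rwa [← map_inv, ← map_mul, ← map_mul] at this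
  have hS : IsSyl p ((S.comap ρ).map π) ⊤ := by
    have : IsSyl p (S.comap ρ) ⊤ := ⟨le_top, h.syl.pg.comap_of_injective ρ hρ, fun Q hQ h1 _ => by
      have := h.syl.max (Q.map ρ) (hQ.map ρ) (by
        rw [← map_comap_eq_self h.syl.le]; exact map_mono h1) (map_le_range ρ Q)
      rw [← this, comap_map_eq_self_of_injective hρ]⟩
    have := this.map π
    rwa [← MonoidHom.range_eq_map, MonoidHom.range_eq_top.2 hπ] at this
  refine H28.isSimple_transport (MulEquiv.refl G) hS (H28.isSimple_group hS (fun e => h.ne ?_) (fun T hT h1 hc => ?_)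
    fun n hn => ?_) S'
  · refine eq_bot_iff.2 fun x hx => ?_
    obtain ⟨y, rfl⟩ := h.syl.le hx
    have : π y ∈ (⊥ : Subgroup G) := e ▸ ⟨y, hx, rfl⟩
    rw [(hz y this).2 (pS y hx), map_one]
    exact one_mem _
  · have := h.sc (S ⊓ (T.comap π).map ρ) inf_le_left (fun e => h1 (eq_bot_iff.2 fun x hx => ?_)) ?_
    · refine le_antisymm hT ?_
      rintro _ ⟨y, hy, rfl⟩
      obtain ⟨y', h1, h2⟩ := (this.ge hy).2
      exact hρ h2 ▸ h1
    · obtain ⟨y, hy, rfl⟩ := hT hx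
      have : ρ y ∈ (⊥ : Subgroup Γ) := e ▸ ⟨hy, y, hx, rfl⟩
      rw [hρ (this.trans (map_one ρ).symm), map_one]
      exact one_mem _
    · rintro _ ⟨h2, y, hy, rfl⟩ _ ⟨g, rfl⟩ hg
      refine ⟨hg, g * y * g⁻¹, ?_, by simp⟩
      rw [← map_inv, ← map_mul, ← map_mul] at hg
      have := hc _ hy (π g) ⟨_, hg, by simp⟩
      rwa [← map_inv, ← map_mul, ← map_mul] at this
  · obtain ⟨n, rfl⟩ := hπ n
    have h1 := h.nm _ ⟨n, rfl⟩ ((nrm S le_rfl n).1 hn)
    have h0 : ∀ X : Subgroup G, nmT p ρ.range S ≤ (X.comap π).map ρ → π n ∈ X := fun X hX => by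
      obtain ⟨y, h2, h3⟩ := hX h1
      exact hρ h3 ▸ h2
    refine h0 _ ?_
    refine sup_le (sup_le (fun x hx => ?_) ?_) ((closure_le _).2 ?_)
    · obtain ⟨y, rfl⟩ := h.syl.le hx
      exact ⟨y, mem_sup_left (mem_sup_left ⟨y, hx, rfl⟩), rfl⟩
    · rintro _ ⟨⟨y, rfl⟩, hy⟩
      refine ⟨y, mem_sup_left (mem_sup_right ?_), rfl⟩
      rintro _ ⟨s, hs, rfl⟩
      rw [← map_mul, ← map_mul, hρ (by rw [map_mul, map_mul]; exact hy _ hs : ρ (s * y) = ρ (y * s))]
    · rintro x ⟨h2, R, hR, h3, h4⟩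
      obtain ⟨y, rfl⟩ := pN_le _ _ h4
      refine ⟨y, mem_sup_right (subset_closure ⟨(nrm S le_rfl y).2 h2, (R.comap ρ).map π, map_mono (comap_mono hR),
        fun c hc hc' => ?_, ?_⟩), rfl⟩
      · obtain ⟨d, hd, rfl⟩ := exists_pEl_lift π hπ hc'
        refine (key R hR d hd).2 (h3 _ ⟨d, rfl⟩ (fun r hr => ?_) (hd.map ρ))
        obtain ⟨r, rfl⟩ := h.syl.le (hR hr)
        have := uq (d * r * d⁻¹) r ((pS r (hR hr)).conj d) (pS r (hR hr)) (by
          rw [map_mul, map_mul, ← hc _ ⟨r, hr, rfl⟩, map_inv, mul_inv_cancel_right])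
        rw [← map_mul, ← map_mul, ← mul_inv_eq_iff_eq_mul.1 this]
      · have : pN p ρ.range R ≤ ((pElementClosure p (normalizer ((R.comap ρ).map π : Set G))).comap π).map ρ := by
          refine (closure_le _).2 ?_
          rintro _ ⟨⟨d, rfl⟩, h5, h6⟩
          exact ⟨d, subset_closure ⟨(nrm R hR d).2 h5, pEl_iff_orderOf.1 ((pel d h6).map π)⟩, rfl⟩
        obtain ⟨d, h5, h6⟩ := this h4
        exact hρ h6 ▸ h5

theorem Crit.simple_quot {D : Type*} [Group D] [Finite D] {ρ : D →* Γ} (hρ : Function.Injective ρ)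
    {S : Subgroup Γ} (h : Crit p ρ.range S) (hz : ∀ z ∈ center D, PEl p z → z = 1) (S' : Sylow p (D ⧸ center D)) :
    (groupFusionSystem (S' : Subgroup (D ⧸ center D))).IsSimple p :=
  h.simple hρ (QuotientGroup.mk' _) (QuotientGroup.mk'_surjective _)
    (fun z e => ⟨(QuotientGroup.eq_one_iff z).1 e, hz z ((QuotientGroup.eq_one_iff z).1 e)⟩) S'

end H04
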